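import Cfsg.Agent.H613.ContribVal
import Cfsg.Agent.H648.HeightForm
import Cfsg.Agent.H658.HeightZeroSq
import Cfsg.Agent.OddOrderCharacters.InducedNormal
import Cfsg.Agent.Blocks.PPart
import Cfsg.Agent.Blocks.ClassSum
import Cfsg.Agent.Blocks.SepCentral
set_option linter.all false

/-!
# Valuations of the contributions of major subsections

`u` is a `p`-element of `G`, `H = C_G(u)`, `b` a block of `H`.

* `scaled_congr`: `|G| / χ 1 * contr χ ψ` modulo `M` depends only on the block of `χ`;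
* `isIntegral_scaled`: it is an algebraic integer;
* `conj_congr`: `p ^ d(b) * contr χ ψ` is congruent modulo `M` to its complex conjugate;
* `major_not_mem`: for a major subsection and `ψ` of height zero it is a unit for all `χ ∈ B`;
* `major_mem`: for a major subsection and `ψ` of positive height it is in the local ideal;
* `isIntegral_pow_sub_mul_contr`: `p ^ (d - ht χ) * contr χ ψ` is an algebraic integer;
* `contr_self_ne_zero`: `contr χ χ ≠ 0` for all `χ ∈ B`.
-/

set_option autoImplicit false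
set_option linter.unusedSectionVars false

open Cfsg
open scoped ComplexConjugate

namespace Cfsg.Agent.H658

open Cfsg.Agent.Blocks.Local Cfsg.Agent.Characters Cfsg.Agent.Blocks.Blau
open Cfsg.Agent.H613.RegGram Cfsg.Agent.H613.Contrib Cfsg.Agent.H613.ContribVal

variable {G : Type*} [Group G] [Fintype G] {p : ℕ} [Fact p.Prime] {M : Ideal AlgInt}

/-- The class function `∑_{η ∈ b} wt ψ η • η` on `H`. -/
noncomputable def secPart {H : Subgroup G} [Fintype H] (p : ℕ) (u : G) (b : Set (IrrCharacter H))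
    [Fintype b] (ψ : G → ℂ) : H → ℂ :=
  ∑ η : b, wt p u ψ (η : H → ℂ) • (η : H → ℂ)

theorem secPart_apply {H : Subgroup G} [Fintype H] (u : G) (b : Set (IrrCharacter H))
    [Fintype b] (ψ : G → ℂ) (y : H) :
    secPart p u b ψ y = ∑ η : b, wt p u ψ (η : H → ℂ) * (η : H → ℂ) y := by
  unfold secPart
  rw [Finset.sum_apply]
  rfl

theorem secPart_isClassFunction {H : Subgroup G} [Fintype H] (u : G) (b : Set (IrrCharacter H))
    [Fintype b] (ψ : G → ℂ) : IsClassFunction H (secPart p u b ψ) := by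
  intro g h
  rw [secPart_apply, secPart_apply]
  refine Finset.sum_congr rfl fun η _ => ?_
  rw [Core.isIrr_isClassFunction (η : IrrCharacter H).2]

section exp

variable {u : G} {H : Subgroup G} [Fintype H] [Fintype (IrrCharacter H)] {q : ℕ}
  {n : IrrCharacter G → IrrCharacter H → ℕ} {e : IrrCharacter H → ℂ}

theorem secPart_eq (hM : IsPModular p M) (hE : Exp u H q n e) {b : Set (IrrCharacter H)}
    [Fintype b] (hb : IsPBlock M b) (ψ : IrrCharacter G) (y : H) :
    secPart p u b (ψ : G → ℂ) y = ∑ ξ : b, (n ψ ξ : ℂ) * e ξ * regPart p (ξ : H → ℂ) y := by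
  rw [secPart_apply]
  have h1 : ∀ η : b, wt p u (ψ : G → ℂ) (η : H → ℂ) * (η : H → ℂ) y =
      ∑ ξ : b, (n ψ ξ : ℂ) * e ξ * (rg p (ξ : H → ℂ) (η : H → ℂ) * (η : H → ℂ) y) := by
    intro η
    have h2 := wt_eq_sum hM hE hb ψ 1 η.2
    rw [pow_one] at h2
    rw [h2, Finset.sum_mul]
    refine Finset.sum_congr rfl fun ξ _ => ?_
    rw [pow_one]
    ring
  rw [Finset.sum_congr rfl fun η _ => h1 η, Finset.sum_comm]
  refine Finset.sum_congr rfl fun ξ _ => ?_
  rw [← Finset.mul_sum]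
  congr 1
  conv_rhs => rw [regPart_eq_sum_block hM hb ξ.2]
  rw [Finset.sum_apply]
  rfl

theorem secPart_eq_zero (hM : IsPModular p M) (hE : Exp u H q n e) {b : Set (IrrCharacter H)}
    [Fintype b] (hb : IsPBlock M b) (ψ : IrrCharacter G) {y : H} (hy : p ∣ orderOf y) :
    secPart p u b (ψ : G → ℂ) y = 0 := by
  rw [secPart_eq hM hE hb]
  refine Finset.sum_eq_zero fun ξ _ => ?_
  rw [regPart_of_dvd hy, mul_zero]

theorem isIntegral_secPart (hM : IsPModular p M) (hq : q ≠ 0) (hE : Exp u H q n e)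
    {b : Set (IrrCharacter H)}
    [Fintype b] (hb : IsPBlock M b) (ψ : IrrCharacter G) (y : H) :
    IsIntegral ℤ (secPart p u b (ψ : G → ℂ) y) := by
  rw [secPart_eq hM hE hb]
  refine IsIntegral.sum _ fun ξ _ => ?_
  refine IsIntegral.mul (IsIntegral.mul ?_ (isIntegral_of_pow_eq_one hq (hE.root ξ))) ?_
  · exact isIntegral_algebraMap (R := ℤ) (x := (n ψ ξ : ℤ))
  · by_cases hy : p ∣ orderOf y
    · rw [regPart_of_dvd hy]; exact isIntegral_zero
    · rw [regPart_of_not_dvd hy]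
      exact Blocks.Central.isIntegral_irr (ξ : IrrCharacter H).2 y

end exp

/-- The contribution as an inner product with `secPart`. -/
theorem contr_eq_secPart {H : Subgroup G} [Fintype H] (u : G) (b : Set (IrrCharacter H))
    [Fintype b] (χ ψ : G → ℂ) (h0 : ∀ y : H, p ∣ orderOf y → secPart p u b ψ y = 0) :
    contr p u b χ ψ = (Nat.card H : ℂ)⁻¹ * ∑ y : H, χ (u * (y : G)) *
      conj (secPart p u b ψ y) := by
  classical
  rw [contr_def]
  have h1 : ∀ η : b, wt p u χ (η : H → ℂ) * conj (wt p u ψ (η : H → ℂ)) =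
      (Nat.card H : ℂ)⁻¹ * ∑ y : H with ¬ p ∣ orderOf y,
        χ (u * (y : G)) * (conj (wt p u ψ (η : H → ℂ)) * conj ((η : H → ℂ) y)) := by
    intro η
    rw [wt_def p u χ, rg_def, pair_eq_sum_filter, mul_assoc, Finset.sum_mul]
    congr 1
    exact Finset.sum_congr rfl fun y _ => by ring
  rw [Finset.sum_congr rfl fun η _ => h1 η, ← Finset.mul_sum, Finset.sum_comm]
  congr 1
  rw [← Finset.sum_filter_add_sum_filter_not Finset.univ (fun y : H => ¬ p ∣ orderOf y)
    (fun y : H => χ (u * (y : G)) * conj (secPart p u b ψ y))]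
  have h2 : ∑ y : H with ¬ ¬ p ∣ orderOf y, χ (u * (y : G)) * conj (secPart p u b ψ y) = 0 := by
    refine Finset.sum_eq_zero fun y hy => ?_
    rw [h0 y (not_not.1 (Finset.mem_filter.1 hy).2), map_zero, mul_zero]
  rw [h2, add_zero]
  refine Finset.sum_congr rfl fun y _ => ?_
  rw [secPart_apply, map_sum, Finset.mul_sum]
  refine Finset.sum_congr rfl fun η _ => ?_
  rw [map_mul]

section lift

/-- The lift to `G` of a class function on `H`. -/
theorem lift_exists {u : G} (hu : ∃ k : ℕ, orderOf u = p ^ k) {H : Subgroup G} [Fintype H]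
    (hH : H = Subgroup.centralizer ({u} : Set G)) (φ : H → ℂ) (hφ : IsClassFunction H φ)
    (h0 : ∀ y : H, p ∣ orderOf y → φ y = 0) (hint : ∀ y, IsIntegral ℤ (φ y)) :
    ∃ F : G → ℂ, IsClassFunction G F ∧ (∀ g, IsIntegral ℤ (F g)) ∧
      ∀ χ : G → ℂ, IsClassFunction G χ →
        ∑ g : G, F g * χ g = (Nat.card G : ℂ) * ((Nat.card H : ℂ)⁻¹ *
          ∑ y : H, χ (u * (y : G)) * φ y) := by
  classical
  have huH : u ∈ H := by rw [hH, Subgroup.mem_centralizer_singleton_iff]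
  let uH : H := ⟨u, huH⟩
  let θ : H → ℂ := fun c => φ (uH⁻¹ * c)
  have hcen : ∀ c : H, uH * c = c * uH := by
    intro c
    apply Subtype.ext
    have h1 : (c : G) ∈ Subgroup.centralizer ({u} : Set G) := by rw [← hH]; exact c.2
    exact (Subgroup.mem_centralizer_singleton_iff.1 h1).symm
  have hθ : IsClassFunction H θ := by
    intro g h
    have h1 : uH⁻¹ * (h * g * h⁻¹) = h * (uH⁻¹ * g) * h⁻¹ := by
      have h2 : uH⁻¹ * h = h * uH⁻¹ := by
        rw [inv_mul_eq_iff_eq_mul, ← mul_assoc, hcen, mul_assoc, mul_inv_cancel, mul_one]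
      calc uH⁻¹ * (h * g * h⁻¹) = uH⁻¹ * h * g * h⁻¹ := by group
        _ = h * (uH⁻¹ * g) * h⁻¹ := by rw [h2]; group
    change φ (uH⁻¹ * (h * g * h⁻¹)) = φ (uH⁻¹ * g)
    rw [h1, hφ]
  refine ⟨indFun H θ, Cfsg.Agent.OddOrderCharacters.InducedNormal.indFun_isClassFunction H θ,
    ?_, ?_⟩
  · intro g
    rw [Cfsg.Agent.OddOrderCharacters.InducedNormal.indFun_def]
    by_cases hall : ∀ x : G, extendByZero H θ (x⁻¹ * g * x) = 0
    · rw [Finset.sum_eq_zero fun x _ => hall x, mul_zero]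
      exact isIntegral_zero
    · push Not at hall
      obtain ⟨x₀, hx₀⟩ := hall
      -- nonzero terms come from elements with `p`-part `u`
      have hkey : ∀ x : G, extendByZero H θ (x⁻¹ * g * x) ≠ 0 →
          ∃ hx : x⁻¹ * g * x ∈ H, IsPPart p (x⁻¹ * g * x) u ∧
            extendByZero H θ (x⁻¹ * g * x) = θ ⟨x⁻¹ * g * x, hx⟩ := by
        intro x hx
        have hxH : x⁻¹ * g * x ∈ H := by
          by_contra hn
          exact hx (Blocks.ClassSum.extendByZero_of_notMem' H θ hn)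
        have hval : extendByZero H θ (x⁻¹ * g * x) = θ ⟨x⁻¹ * g * x, hxH⟩ :=
          Blocks.ClassSum.extendByZero_coe' H θ ⟨x⁻¹ * g * x, hxH⟩
        refine ⟨hxH, ?_, hval⟩
        rw [hval] at hx
        have hreg : ¬ p ∣ orderOf (uH⁻¹ * ⟨x⁻¹ * g * x, hxH⟩) := fun h => hx (h0 _ h)
        refine ⟨u⁻¹ * (x⁻¹ * g * x), by group, ?_, hu, ?_⟩
        · have h1 : u * (x⁻¹ * g * x) = (x⁻¹ * g * x) * u :=
            congrArg Subtype.val (hcen ⟨x⁻¹ * g * x, hxH⟩)
          change u * (u⁻¹ * (x⁻¹ * g * x)) = u⁻¹ * (x⁻¹ * g * x) * u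
          calc u * (u⁻¹ * (x⁻¹ * g * x)) = u⁻¹ * (u * (x⁻¹ * g * x)) := by group
            _ = u⁻¹ * (x⁻¹ * g * x) * u := by rw [h1]; group
        · have h1 : orderOf (u⁻¹ * (x⁻¹ * g * x)) =
              orderOf (uH⁻¹ * ⟨x⁻¹ * g * x, hxH⟩) := by
            rw [← Subgroup.orderOf_coe]
            rfl
          rw [h1]
          exact hreg
      obtain ⟨hx₀H, hx₀P, hx₀v⟩ := hkey x₀ hx₀
      have hsum : ∀ x : G, extendByZero H θ (x⁻¹ * g * x) =
          if x₀⁻¹ * x ∈ H then θ ⟨x₀⁻¹ * g * x₀, hx₀H⟩ else 0 := by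
        intro x
        split_ifs with hx
        · have h1 : x⁻¹ * g * x = (x₀⁻¹ * x)⁻¹ * (x₀⁻¹ * g * x₀) * (x₀⁻¹ * x) := by group
          have h2 : x⁻¹ * g * x ∈ H := by
            rw [h1]; exact H.mul_mem (H.mul_mem (H.inv_mem hx) hx₀H) hx
          have h3 : extendByZero H θ (x⁻¹ * g * x) = θ ⟨x⁻¹ * g * x, h2⟩ :=
            Blocks.ClassSum.extendByZero_coe' H θ ⟨x⁻¹ * g * x, h2⟩
          rw [h3]
          have h4 : (⟨x⁻¹ * g * x, h2⟩ : H) = (⟨x₀⁻¹ * x, hx⟩ : H)⁻¹ * ⟨x₀⁻¹ * g * x₀, hx₀H⟩ *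
              ((⟨x₀⁻¹ * x, hx⟩ : H)⁻¹)⁻¹ := by
            apply Subtype.ext
            push_cast
            rw [h1]
            group
          rw [h4, hθ]
        · by_contra hne
          obtain ⟨hxH, hxP, -⟩ := hkey x hne
          apply hx
          have h1 : (x⁻¹ * x₀) * (x₀⁻¹ * g * x₀) * (x⁻¹ * x₀)⁻¹ = x⁻¹ * g * x := by group
          have h2 := Blocks.PPart.mem_centralizer_of_conj hx₀P hxP h1
          rw [← hH] at h2
          have h3 := H.inv_mem h2
          have h4 : (x⁻¹ * x₀)⁻¹ = x₀⁻¹ * x := by group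
          rwa [h4] at h3
      have hcount : ∑ x : G, extendByZero H θ (x⁻¹ * g * x) =
          (Nat.card H : ℂ) * θ ⟨x₀⁻¹ * g * x₀, hx₀H⟩ := by
        rw [Finset.sum_congr rfl fun x _ => hsum x, ← Finset.sum_filter, Finset.sum_const,
          nsmul_eq_mul]
        congr 2
        have h1 : (Finset.univ.filter fun x : G => x₀⁻¹ * x ∈ H) =
            (Finset.univ : Finset H).image (fun h : H => x₀ * (h : G)) := by
          ext x
          rw [Finset.mem_filter, Finset.mem_image]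
          constructor
          · rintro ⟨-, hx⟩
            exact ⟨⟨x₀⁻¹ * x, hx⟩, Finset.mem_univ _, mul_inv_cancel_left x₀ x⟩
          · rintro ⟨h, -, rfl⟩
            refine ⟨Finset.mem_univ _, ?_⟩
            rw [inv_mul_cancel_left]
            exact h.2
        have h2 : Function.Injective (fun h : H => x₀ * (h : G)) := fun a b hab =>
          Subtype.ext (mul_left_cancel hab)
        rw [h1, Finset.card_image_of_injective _ h2, Finset.card_univ, Nat.card_eq_fintype_card]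
      have hH0 : (Nat.card H : ℂ) ≠ 0 := by exact_mod_cast Nat.card_pos.ne'
      rw [hcount, ← mul_assoc, inv_mul_cancel₀ hH0, one_mul]
      exact hint _
  · intro χ hχ
    rw [Cfsg.Agent.OddOrderCharacters.InducedNormal.sum_indFun_mul H θ χ hχ]
    have h1 : ∑ k : H, θ k * χ k = ∑ y : H, χ (u * (y : G)) * φ y := by
      rw [← Equiv.sum_comp (Equiv.mulLeft uH)]
      refine Finset.sum_congr rfl fun y _ => ?_
      change φ (uH⁻¹ * (uH * y)) * χ (((uH * y : H)) : G) = _
      rw [inv_mul_cancel_left, mul_comm]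
      rfl
    rw [h1, Nat.card_eq_fintype_card (α := G)]
    ring

end lift

section scaled

theorem exists_exp' {u : G} (hu : ∃ k : ℕ, orderOf u = p ^ k) {H : Subgroup G}
    (hH : H = Subgroup.centralizer ({u} : Set G)) [Fintype (IrrCharacter H)] :
    ∃ j n e, Exp u H (p ^ j) n e := by
  obtain ⟨j, hj⟩ := hu
  obtain ⟨n, e, h⟩ := exists_exp hH (q := p ^ j) (by rw [← hj]; exact pow_orderOf_eq_one u)
  exact ⟨j, n, e, h⟩

/-- The contributions of the subsection `(u, b)` to the inner products with a fixed irreducible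
character are the values at a class function with integral values. -/
theorem exists_lift_contr (hM : IsPModular p M) {u : G} (hu : ∃ k : ℕ, orderOf u = p ^ k)
    {H : Subgroup G} [Fintype H] (hH : H = Subgroup.centralizer ({u} : Set G))
    {b : Set (IrrCharacter H)} [Fintype b] (hb : IsPBlock M b) (ψ : IrrCharacter G) :
    ∃ F : G → ℂ, IsClassFunction G F ∧ (∀ g, IsIntegral ℤ (F g)) ∧
      ∀ χ : G → ℂ, IsClassFunction G χ →
        ∑ g : G, F g * χ g = (Nat.card G : ℂ) * contr p u b χ (ψ : G → ℂ) := by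
  have := Core.finite_irr (G := H)
  have := Fintype.ofFinite (IrrCharacter H)
  obtain ⟨j, n, e, hE⟩ := exists_exp' hu hH
  obtain ⟨F, hF, hFi, h⟩ := lift_exists hu hH (fun y => conj (secPart p u b (ψ : G → ℂ) y))
    (by
      intro g h
      change conj _ = conj _
      rw [secPart_isClassFunction u b (ψ : G → ℂ) g h])
    (by
      intro y hy
      rw [secPart_eq_zero hM hE hb ψ hy, map_zero])
    (fun y => isIntegral_conj
      (isIntegral_secPart hM (pow_ne_zero _ hM.1.ne_zero) hE hb ψ y))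
  refine ⟨F, hF, hFi, fun χ hχ => ?_⟩
  rw [h χ hχ, contr_eq_secPart u b χ (ψ : G → ℂ) (fun y hy => secPart_eq_zero hM hE hb ψ hy)]

/-- `|G| / χ 1 * contr χ ψ` modulo `M` depends only on the block of `χ`. -/
theorem scaled_congr (hM : IsPModular p M) {u : G} (hu : ∃ k : ℕ, orderOf u = p ^ k)
    {H : Subgroup G} [Fintype H] (hH : H = Subgroup.centralizer ({u} : Set G))
    {b : Set (IrrCharacter H)} [Fintype b] (hb : IsPBlock M b) {χ χ' : IrrCharacter G}
    (h : SameBlock M (χ : G → ℂ) (χ' : G → ℂ)) (ψ : IrrCharacter G) :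
    MemLocalIdeal M ((Nat.card G : ℂ) / (χ : G → ℂ) 1 * contr p u b (χ : G → ℂ) (ψ : G → ℂ) -
      (Nat.card G : ℂ) / (χ' : G → ℂ) 1 * contr p u b (χ' : G → ℂ) (ψ : G → ℂ)) := by
  have := isPrime_of_isPModular hM
  obtain ⟨F, hF, hFi, hsum⟩ := exists_lift_contr hM hu hH hb ψ
  have h1 := Blocks.ClassSum.memLocalIdeal_of_sameBlock (Core.isIrr_isClassFunction χ.2)
    (Core.isIrr_isClassFunction χ'.2) h hF (fun g => memLocalRing_of_isIntegral (hFi g))
  have h2 : ∀ θ : IrrCharacter G, ∑ g : G, F g * ((θ : G → ℂ) g / (θ : G → ℂ) 1) =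
      (Nat.card G : ℂ) / (θ : G → ℂ) 1 * contr p u b (θ : G → ℂ) (ψ : G → ℂ) := by
    intro θ
    rw [div_mul_eq_mul_div, ← hsum _ (Core.isIrr_isClassFunction θ.2), Finset.sum_div]
    exact Finset.sum_congr rfl fun g _ => by rw [mul_div_assoc]
  rw [h2, h2] at h1
  exact h1

/-- `|G| / χ 1 * contr χ ψ` is an algebraic integer. -/
theorem isIntegral_scaled (hM : IsPModular p M) {u : G} (hu : ∃ k : ℕ, orderOf u = p ^ k)
    {H : Subgroup G} [Fintype H] (hH : H = Subgroup.centralizer ({u} : Set G))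
    {b : Set (IrrCharacter H)} [Fintype b] (hb : IsPBlock M b) (χ ψ : IrrCharacter G) :
    IsIntegral ℤ ((Nat.card G : ℂ) / (χ : G → ℂ) 1 *
      contr p u b (χ : G → ℂ) (ψ : G → ℂ)) := by
  obtain ⟨F, hF, hFi, hsum⟩ := exists_lift_contr hM hu hH hb ψ
  have h1 := Blocks.SepCentral.isIntegral_lin_div' χ.2 hF hFi
  rw [Blocks.ConvCentral.lin_def, hsum _ (Core.isIrr_isClassFunction χ.2)] at h1
  rwa [div_mul_eq_mul_div]

/-- `p ^ d * contr χ ψ` is an algebraic integer. -/
theorem isIntegral_pow_mul_contr (hM : IsPModular p M) {u : G} (hu : ∃ k : ℕ, orderOf u = p ^ k)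
    {H : Subgroup G} [Fintype H] (hH : H = Subgroup.centralizer ({u} : Set G))
    {b : Set (IrrCharacter H)} [Fintype b] (hb : IsPBlock M b) (χ ψ : IrrCharacter G) :
    IsIntegral ℤ ((p : ℂ) ^ blockDefect p b * contr p u b (χ : G → ℂ) (ψ : G → ℂ)) := by
  classical
  have := Core.finite_irr (G := H)
  have := Fintype.ofFinite (IrrCharacter H)
  obtain ⟨j, n, e, hE⟩ := exists_exp' hu hH
  have hq : p ^ j ≠ 0 := pow_ne_zero _ hM.1.ne_zero
  have hz : ∀ ξ η : IrrCharacter H, ∃ z : ℤ, ξ ∈ b →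
      (p : ℂ) ^ blockDefect p b * rg p (ξ : H → ℂ) (η : H → ℂ) = z := by
    intro ξ η
    by_cases hξ : ξ ∈ b
    · obtain ⟨z, hz⟩ := exists_int_rg hM hξ η
      exact ⟨z, fun _ => hz⟩
    · exact ⟨0, fun h => absurd h hξ⟩
  choose z hz using hz
  have h1 := pow_mul_contr_eq hM hE hb (z := z) (fun ξ hξ η => hz ξ η hξ) χ ψ (k := 1)
    (by rw [pow_one]; exact hH)
  rw [pow_one] at h1
  rw [h1]
  refine IsIntegral.sum _ fun i _ => ?_
  refine IsIntegral.mul ?_ (IsIntegral.pow (IsIntegral.mul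
    (isIntegral_of_pow_eq_one hq (hE.root _))
    (isIntegral_conj (isIntegral_of_pow_eq_one hq (hE.root _)))) 1)
  have h2 : (((n χ i.1 * n ψ i.2 * z i.1 i.2 : ℤ) : ℚ) : ℂ) =
      algebraMap ℤ ℂ (n χ i.1 * n ψ i.2 * z i.1 i.2 : ℤ) := by
    simp
  rw [h2]
  exact isIntegral_algebraMap

/-- `p ^ d * contr χ ψ` is symmetric modulo `M`. -/
theorem conj_congr (hM : IsPModular p M) {u : G} (hu : ∃ k : ℕ, orderOf u = p ^ k)
    {H : Subgroup G} [Fintype H] (hH : H = Subgroup.centralizer ({u} : Set G))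
    {b : Set (IrrCharacter H)} [Fintype b] (hb : IsPBlock M b) (χ ψ : IrrCharacter G) :
    MemLocalIdeal M ((p : ℂ) ^ blockDefect p b * contr p u b (χ : G → ℂ) (ψ : G → ℂ) -
      (p : ℂ) ^ blockDefect p b * contr p u b (ψ : G → ℂ) (χ : G → ℂ)) := by
  have := isPrime_of_isPModular hM
  have := Core.finite_irr (G := H)
  have := Fintype.ofFinite (IrrCharacter H)
  obtain ⟨j, n, e, hE⟩ := exists_exp' hu hH
  obtain ⟨ξ₀, hξ₀, hξ₀0⟩ := exists_blockHeight_eq_zero p (isPBlock_nonempty hM hb)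
  have hk : H = Subgroup.centralizer ({u ^ 1} : Set G) := by rw [pow_one]; exact hH
  have h1 := memLocalIdeal_contr_sub hM hE hb hξ₀ hξ₀0 χ ψ hk
  have h2 := memLocalIdeal_contr_sub hM hE hb hξ₀ hξ₀0 ψ χ hk
  rw [pow_one] at h1 h2
  have h3 := memLocalIdeal_sub h1 h2
  convert h3 using 1
  ring

end scaled

section major

theorem sameBlock_of_mem {B : Set (IrrCharacter G)} (hM : IsPModular p M) (hB : IsPBlock M B)
    {χ χ' : IrrCharacter G} (hχ : χ ∈ B) (hχ' : χ' ∈ B) :
    SameBlock M (χ : G → ℂ) (χ' : G → ℂ) := by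
  have := isPrime_of_isPModular hM
  rw [Blocks.Basic.isPBlock_eq_blockOf hB hχ] at hχ'
  exact hχ'

variable {u : G} {H : Subgroup G} [Fintype H] {b : Set (IrrCharacter H)} [Fintype b]
  {B : Set (IrrCharacter G)}

/-- Major subsections: for `ψ` of height zero the scaled contributions are units. -/
theorem major_not_mem (hM : IsPModular p M) (hu : ∃ k : ℕ, orderOf u = p ^ k)
    (hH : H = Subgroup.centralizer ({u} : Set G)) (hind : IsInducedBlock M H b B)
    (hd : blockDefect p b = blockDefect p B) {χ ψ : IrrCharacter G} (hχ : χ ∈ B) (hψ : ψ ∈ B)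
    (hψ0 : blockHeight p B (ψ : G → ℂ) = 0) :
    ¬ MemLocalIdeal M ((Nat.card G : ℂ) / (χ : G → ℂ) 1 *
      contr p u b (χ : G → ℂ) (ψ : G → ℂ)) := by
  have := isPrime_of_isPModular hM
  have := Core.finite_irr (G := H)
  have := Fintype.ofFinite (IrrCharacter H)
  obtain ⟨j, n, e, hE⟩ := exists_exp' hu hH
  obtain ⟨χ₀, hχ₀, hχ₀0⟩ := exists_blockHeight_eq_zero p (isPBlock_nonempty hM hind.2.1)
  rw [memLocalIdeal_iff_of_sub (scaled_congr hM hu hH hind.1
    (sameBlock_of_mem hM hind.2.1 hχ hχ₀) ψ)]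
  have hk : H = Subgroup.centralizer ({u ^ 1} : Set G) := by rw [pow_one]; exact hH
  have h1 := not_memLocalIdeal_contr hM hE hind hχ₀ hψ hχ₀0 hψ0 hk
  rw [pow_one, hd] at h1
  intro h
  apply h1
  obtain ⟨v, hv, -, -, hve⟩ := H648.HeightForm.scaled_eq (p := p) hM hχ₀
    (contr p u b (χ₀ : G → ℂ) (ψ : G → ℂ))
  push_cast at hve
  rw [hve]
  exact memLocalIdeal_mul_left (memLocalRing_pow (memLocalRing_natCast _) _)
    (memLocalIdeal_mul_left hv h)

/-- Major subsections: for `ψ` of positive height the scaled contributions are nonunits. -/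
theorem major_mem (hM : IsPModular p M) (hu : ∃ k : ℕ, orderOf u = p ^ k)
    (hH : H = Subgroup.centralizer ({u} : Set G)) (hind : IsInducedBlock M H b B)
    (hd : blockDefect p b = blockDefect p B) {χ ψ : IrrCharacter G} (hχ : χ ∈ B) (hψ : ψ ∈ B)
    (hψ0 : blockHeight p B (ψ : G → ℂ) ≠ 0) :
    MemLocalIdeal M ((Nat.card G : ℂ) / (χ : G → ℂ) 1 *
      contr p u b (χ : G → ℂ) (ψ : G → ℂ)) := by
  have := isPrime_of_isPModular hM
  obtain ⟨χ₀, hχ₀, hχ₀0⟩ := exists_blockHeight_eq_zero p (isPBlock_nonempty hM hind.2.1)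
  rw [memLocalIdeal_iff_of_sub (scaled_congr hM hu hH hind.1
    (sameBlock_of_mem hM hind.2.1 hχ hχ₀) ψ)]
  -- reduce to `p ^ d * contr χ₀ ψ`
  obtain ⟨v, hv, hv', hv0, hve⟩ := H648.HeightForm.scaled_eq (p := p) hM hχ₀
    (contr p u b (χ₀ : G → ℂ) (ψ : G → ℂ))
  rw [hχ₀0, pow_zero, Nat.cast_one, one_mul] at hve
  push_cast at hve
  have h1 : (Nat.card G : ℂ) / (χ₀ : G → ℂ) 1 * contr p u b (χ₀ : G → ℂ) (ψ : G → ℂ) =
      v⁻¹ * ((p : ℂ) ^ blockDefect p B * contr p u b (χ₀ : G → ℂ) (ψ : G → ℂ)) := by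
    rw [hve, inv_mul_cancel_left₀ hv0]
  rw [h1]
  refine memLocalIdeal_mul_left hv' ?_
  have h2 := conj_congr hM hu hH hind.1 χ₀ ψ
  rw [hd] at h2
  rw [memLocalIdeal_iff_of_sub h2]
  obtain ⟨w, hw, -, -, hwe⟩ := H648.HeightForm.scaled_eq (p := p) hM hψ
    (contr p u b (ψ : G → ℂ) (χ₀ : G → ℂ))
  push_cast at hwe
  rw [hwe]
  refine memLocalIdeal_mul_right ?_ (memLocalRing_mul hw
    (memLocalRing_of_isIntegral (isIntegral_scaled hM hu hH hind.1 ψ χ₀)))
  have h3 : MemLocalIdeal M (((p ^ blockHeight p B (ψ : G → ℂ) : ℕ)) : ℂ) := by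
    rw [memLocalIdeal_natCast_iff hM]
    exact dvd_pow_self p hψ0
  exact_mod_cast h3

/-- Major subsections: `p ^ d * contr χ ψ = p ^ ht χ * unit` for `ψ` of height zero. -/
theorem exists_unit_of_height_zero (hM : IsPModular p M) (hu : ∃ k : ℕ, orderOf u = p ^ k)
    (hH : H = Subgroup.centralizer ({u} : Set G)) (hind : IsInducedBlock M H b B)
    (hd : blockDefect p b = blockDefect p B) {χ ψ : IrrCharacter G} (hχ : χ ∈ B) (hψ : ψ ∈ B)
    (hψ0 : blockHeight p B (ψ : G → ℂ) = 0) :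
    ∃ w : ℂ, MemLocalRing M w ∧ ¬ MemLocalIdeal M w ∧
      (p : ℂ) ^ blockDefect p B * contr p u b (χ : G → ℂ) (ψ : G → ℂ) =
        (p : ℂ) ^ blockHeight p B (χ : G → ℂ) * w := by
  have := isPrime_of_isPModular hM
  obtain ⟨v, hv, hv', hv0, hve⟩ := H648.HeightForm.scaled_eq (p := p) hM hχ
    (contr p u b (χ : G → ℂ) (ψ : G → ℂ))
  push_cast at hve
  refine ⟨_, ?_, ?_, hve⟩
  · exact memLocalRing_mul hv
      (memLocalRing_of_isIntegral (isIntegral_scaled hM hu hH hind.1 χ ψ))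
  · intro h
    apply major_not_mem hM hu hH hind hd hχ hψ hψ0
    have h1 := memLocalIdeal_mul_left hv' h
    rwa [inv_mul_cancel_left₀ hv0] at h1

/-- Major subsections: `p ^ d * contr χ ψ = p ^ ht χ * nonunit` for `ψ` of positive height. -/
theorem exists_nonunit_of_height_pos (hM : IsPModular p M) (hu : ∃ k : ℕ, orderOf u = p ^ k)
    (hH : H = Subgroup.centralizer ({u} : Set G)) (hind : IsInducedBlock M H b B)
    (hd : blockDefect p b = blockDefect p B) {χ ψ : IrrCharacter G} (hχ : χ ∈ B) (hψ : ψ ∈ B)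
    (hψ0 : blockHeight p B (ψ : G → ℂ) ≠ 0) :
    ∃ w : ℂ, MemLocalIdeal M w ∧
      (p : ℂ) ^ blockDefect p B * contr p u b (χ : G → ℂ) (ψ : G → ℂ) =
        (p : ℂ) ^ blockHeight p B (χ : G → ℂ) * w := by
  have := isPrime_of_isPModular hM
  obtain ⟨v, hv, -, -, hve⟩ := H648.HeightForm.scaled_eq (p := p) hM hχ
    (contr p u b (χ : G → ℂ) (ψ : G → ℂ))
  push_cast at hve
  exact ⟨_, memLocalIdeal_mul_left hv (major_mem hM hu hH hind hd hχ hψ hψ0), hve⟩

/-- Major subsections: `contr χ ψ ≠ 0` for `ψ` of height zero. -/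
theorem contr_ne_zero (hM : IsPModular p M) (hu : ∃ k : ℕ, orderOf u = p ^ k)
    (hH : H = Subgroup.centralizer ({u} : Set G)) (hind : IsInducedBlock M H b B)
    (hd : blockDefect p b = blockDefect p B) {χ ψ : IrrCharacter G} (hχ : χ ∈ B) (hψ : ψ ∈ B)
    (hψ0 : blockHeight p B (ψ : G → ℂ) = 0) :
    contr p u b (χ : G → ℂ) (ψ : G → ℂ) ≠ 0 := by
  have := isPrime_of_isPModular hM
  intro h
  apply major_not_mem hM hu hH hind hd hχ hψ hψ0
  rw [h, mul_zero]
  exact memLocalIdeal_zero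

/-- Major subsections: `contr χ χ ≠ 0`. -/
theorem contr_self_ne_zero (hM : IsPModular p M) (hu : ∃ k : ℕ, orderOf u = p ^ k)
    (hH : H = Subgroup.centralizer ({u} : Set G)) (hind : IsInducedBlock M H b B)
    (hd : blockDefect p b = blockDefect p B) {χ : IrrCharacter G} (hχ : χ ∈ B) :
    contr p u b (χ : G → ℂ) (χ : G → ℂ) ≠ 0 := by
  obtain ⟨ψ, hψ, hψ0⟩ := exists_blockHeight_eq_zero p (isPBlock_nonempty hM hind.2.1)
  intro h
  apply contr_ne_zero hM hu hH hind hd hχ hψ hψ0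
  rw [contr_self_eq] at h
  have h1 : ∑ η : b, ‖wt p u (χ : G → ℂ) (η : H → ℂ)‖ ^ 2 = 0 := by exact_mod_cast h
  rw [Finset.sum_eq_zero_iff_of_nonneg (fun η _ => by positivity)] at h1
  rw [contr_def]
  refine Finset.sum_eq_zero fun η hη => ?_
  have h2 := h1 η hη
  rw [pow_eq_zero_iff two_ne_zero, norm_eq_zero] at h2
  rw [h2, zero_mul]

/-- Major subsections: `p ^ (d - ht χ) * contr χ ψ` is an algebraic integer. -/
theorem isIntegral_pow_sub_mul_contr (hM : IsPModular p M) (hu : ∃ k : ℕ, orderOf u = p ^ k)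
    (hH : H = Subgroup.centralizer ({u} : Set G)) (hind : IsInducedBlock M H b B)
    (hd : blockDefect p b = blockDefect p B) {χ : IrrCharacter G} (hχ : χ ∈ B)
    (ψ : IrrCharacter G) :
    IsIntegral ℤ ((p : ℂ) ^ (blockDefect p B - blockHeight p B (χ : G → ℂ)) *
      contr p u b (χ : G → ℂ) (ψ : G → ℂ)) := by
  have hp := hM.1
  have h1 := isIntegral_scaled hM hu hH hind.1 χ ψ
  have h2 := isIntegral_pow_mul_contr hM hu hH hind.1 χ ψ
  rw [hd] at h2
  have hadd := H648.HeightForm.defect_add (p := p) B hχ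
  rw [Blocks.Basic.irr_one_eq_charDegree χ.2] at h1
  obtain ⟨N, hN⟩ := (S0914.degree_spec χ).2.2
  have hm0 : charDegree (χ : G → ℂ) ≠ 0 := (Blocks.Basic.charDegree_pos χ.2).ne'
  have hN0 : N ≠ 0 := by
    rintro rfl
    rw [mul_zero] at hN
    exact Nat.card_pos.ne' hN
  have hNc : (Nat.card G : ℂ) / (charDegree (χ : G → ℂ) : ℂ) = N := by
    rw [hN]
    push_cast
    have : (charDegree (χ : G → ℂ) : ℂ) ≠ 0 := by exact_mod_cast hm0
    field_simp
  rw [hNc] at h1
  have hfac : (Nat.card G).factorization p =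
      (charDegree (χ : G → ℂ)).factorization p + N.factorization p := by
    rw [hN, Nat.factorization_mul hm0 hN0]
    rfl
  set d := blockDefect p B
  set h := blockHeight p B (χ : G → ℂ)
  have hle : h ≤ d := by omega
  have hNf : N.factorization p = d - h := by omega
  have hN1 : p ^ (N.factorization p) * (N / p ^ (N.factorization p)) = N :=
    Nat.ordProj_mul_ordCompl_eq_self N p
  have hN2 : ¬ p ∣ N / p ^ (N.factorization p) := Nat.not_dvd_ordCompl hp hN0
  rw [hNf] at hN1 hN2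
  set r := N / p ^ (d - h)
  have hcop : Nat.Coprime (p ^ h) r := Nat.Coprime.pow_left _ ((Nat.Prime.coprime_iff_not_dvd hp).2 hN2)
  have hcopZ : IsCoprime ((p : ℤ) ^ h) (r : ℤ) := by
    have := Nat.isCoprime_iff_coprime.2 hcop
    push_cast at this
    exact this
  obtain ⟨a, c, hac⟩ := hcopZ
  have h3 : (p : ℂ) ^ (d - h) * contr p u b (χ : G → ℂ) (ψ : G → ℂ) =
      (a : ℂ) * ((p : ℂ) ^ d * contr p u b (χ : G → ℂ) (ψ : G → ℂ)) +
        (c : ℂ) * ((N : ℂ) * contr p u b (χ : G → ℂ) (ψ : G → ℂ)) := by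
    have h4 : (a : ℂ) * (p : ℂ) ^ h + (c : ℂ) * (r : ℂ) = 1 := by exact_mod_cast hac
    have h5 : (N : ℂ) = (p : ℂ) ^ (d - h) * (r : ℂ) := by
      rw [← hN1]; push_cast; rfl
    have h6 : (p : ℂ) ^ d = (p : ℂ) ^ (d - h) * (p : ℂ) ^ h := by
      rw [← pow_add, Nat.sub_add_cancel hle]
    rw [h5, h6]
    linear_combination (-(p : ℂ) ^ (d - h) * contr p u b (χ : G → ℂ) (ψ : G → ℂ)) * h4
  rw [h3]
  exact ((isIntegral_algebraMap (R := ℤ) (x := a)).mul h2).add
    ((isIntegral_algebraMap (R := ℤ) (x := c)).mul h1)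

end major

end Cfsg.Agent.H658
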