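import Cfsg.Agent.H658.RegPow
import Cfsg.Agent.H644.CentralQuot
set_option linter.all false

/-!
# Domination of blocks by a central `p`-subgroup: integer combinations, defect groups

`U` is a central `p`-subgroup of `G`, `b` a block of `G`, `defl U b` the dominated block of `G ⧸ U`
(see `Cfsg.Agent.H644.CentralQuot`).

* `eq_zero_of_split`: block components on the `p`-regular elements;
* `exists_int_comb`, `exists_int_defl`: every `χ ∈ b` is on the `p`-regular elements an integer
  combination of inflations of members of `defl U b`;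
* `isDefectGroup_defl`: the image of a defect group of `b` is a defect group of `defl U b`.
-/

set_option autoImplicit false
set_option linter.unusedSectionVars false

open Cfsg
open scoped ComplexConjugate

namespace Cfsg.Agent.H658

open Cfsg.Agent.Blocks.Local Cfsg.Agent.Characters Cfsg.Agent.Blocks.Blau
open Cfsg.Agent.H613.RegGram Cfsg.Agent.H658.RegPow
open Cfsg.Agent.H644.CentralQuot

variable {G : Type*} [Group G] [Finite G] {p : ℕ} [Fact p.Prime] {M : Ideal AlgInt}

section separation

/-- Block components on the `p`-regular elements are determined by the sum. -/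
theorem eq_zero_of_split (hM : IsPModular p M) {f : Set (IrrCharacter G)} (hf : IsPBlock M f)
    [Fintype (IrrCharacter G)] (a : IrrCharacter G → ℂ)
    (h : ∀ g : G, ¬ p ∣ orderOf g → ∑ χ, a χ * (χ : G → ℂ) g = 0) [DecidablePred (· ∈ f)] :
    ∀ g : G, ¬ p ∣ orderOf g → ∑ χ with χ ∈ f, a χ * (χ : G → ℂ) g = 0 := by
  classical
  have := Fintype.ofFinite G
  let v : G → ℂ := fun g => ∑ χ with χ ∈ f, a χ * (χ : G → ℂ) g
  let w : G → ℂ := fun g => ∑ χ with χ ∉ f, a χ * (χ : G → ℂ) g
  have hvw : ∀ g : G, ¬ p ∣ orderOf g → v g = - w g := by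
    intro g hg
    have h1 := h g hg
    rw [← Finset.sum_filter_add_sum_filter_not Finset.univ (fun χ => χ ∈ f)] at h1
    exact eq_neg_of_add_eq_zero_left h1
  -- the product of `v` with itself
  have hrg : ∀ (χ ψ : IrrCharacter G), χ ∈ f → ψ ∉ f →
      ∑ g : G with ¬ p ∣ orderOf g, (χ : G → ℂ) g * conj ((ψ : G → ℂ) g) = 0 := by
    intro χ ψ hχ hψ
    have h1 := pair_eq_zero hM hf hχ hψ
    rwa [Cfsg.Agent.H613.Contrib.pair_eq_sum_filter] at h1
  have hvv : ∑ g : G with ¬ p ∣ orderOf g, v g * conj (v g) = 0 := by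
    have h1 : ∑ g : G with ¬ p ∣ orderOf g, v g * conj (v g) =
        - ∑ g : G with ¬ p ∣ orderOf g, v g * conj (w g) := by
      rw [← Finset.sum_neg_distrib]
      refine Finset.sum_congr rfl fun g hg => ?_
      rw [hvw g (Finset.mem_filter.1 hg).2]
      conv_lhs => rw [map_neg]
      rw [neg_mul, neg_mul]
      ring
    rw [h1, neg_eq_zero]
    have h2 : ∀ g : G, v g * conj (w g) = ∑ χ with χ ∈ f, ∑ ψ with ψ ∉ f,
        a χ * conj (a ψ) * ((χ : G → ℂ) g * conj ((ψ : G → ℂ) g)) := by
      intro g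
      change (∑ χ with χ ∈ f, a χ * (χ : G → ℂ) g) * conj (∑ χ with χ ∉ f, a χ * (χ : G → ℂ) g) = _
      rw [map_sum, Finset.sum_mul_sum]
      refine Finset.sum_congr rfl fun χ _ => Finset.sum_congr rfl fun ψ _ => ?_
      rw [map_mul]
      ring
    rw [Finset.sum_congr rfl fun g _ => h2 g, Finset.sum_comm]
    refine Finset.sum_eq_zero fun χ hχ => ?_
    rw [Finset.sum_comm]
    refine Finset.sum_eq_zero fun ψ hψ => ?_
    rw [← Finset.mul_sum, hrg χ ψ (Finset.mem_filter.1 hχ).2 (Finset.mem_filter.1 hψ).2, mul_zero]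
  have hvv2 : ∑ g : G with ¬ p ∣ orderOf g, ‖v g‖ ^ 2 = 0 := by
    have h1 : ((∑ g : G with ¬ p ∣ orderOf g, ‖v g‖ ^ 2 : ℝ) : ℂ) = 0 := by
      rw [← hvv]
      push_cast
      refine Finset.sum_congr rfl fun g _ => ?_
      rw [Complex.mul_conj, Complex.normSq_eq_norm_sq]
      push_cast
      rfl
    exact_mod_cast h1
  intro g hg
  rw [Finset.sum_eq_zero_iff_of_nonneg (fun _ _ => by positivity)] at hvv2
  have h1 := hvv2 g (Finset.mem_filter.2 ⟨Finset.mem_univ _, hg⟩)
  rw [pow_eq_zero_iff two_ne_zero, norm_eq_zero] at h1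
  exact h1

end separation

section central

variable {U : Subgroup G} [U.Normal]

/-- Elements with the same image in `G ⧸ U` have the same `p`-regular part. -/
theorem pow_eq_of_mk (hU : U ≤ Subgroup.center G) (hp : IsPGroup p U) {n r : ℕ}
    (h : RegExp p G n r) {g g' : G} (hg : (QuotientGroup.mk g : G ⧸ U) = QuotientGroup.mk g') :
    g ^ p ^ n = g' ^ p ^ n := by
  rw [QuotientGroup.eq] at hg
  have h1 : g' = g * (g⁻¹ * g') := by group
  obtain ⟨k, hk⟩ := IsPGroup.iff_orderOf.1 hp ⟨_, hg⟩
  rw [Subgroup.orderOf_mk] at hk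
  rw [h1, h.mul_pow_eq ((Subgroup.mem_center_iff.1 (hU hg) g)) ⟨k, hk⟩]

theorem classInner_mk [Fintype G] [Fintype (G ⧸ U)] (f f' : G ⧸ U → ℂ) :
    classInner (fun g : G => f (QuotientGroup.mk g)) (fun g : G => f' (QuotientGroup.mk g)) =
      classInner f f' := by
  classical
  rw [Blocks.Basic.classInner_def, Blocks.Basic.classInner_def]
  have h1 : ∑ g : G, f (QuotientGroup.mk g) * (starRingEnd ℂ) (f' (QuotientGroup.mk g)) =
      (Nat.card U : ℂ) * ∑ x : G ⧸ U, f x * (starRingEnd ℂ) (f' x) := by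
    rw [← Finset.sum_fiberwise_of_maps_to (t := Finset.univ)
      (g := fun g : G => (QuotientGroup.mk g : G ⧸ U)) (fun _ _ => Finset.mem_univ _),
      Finset.mul_sum]
    refine Finset.sum_congr rfl fun x _ => ?_
    have h2 : ∀ g ∈ Finset.univ.filter (fun g : G => (QuotientGroup.mk g : G ⧸ U) = x),
        f (QuotientGroup.mk g) * (starRingEnd ℂ) (f' (QuotientGroup.mk g)) =
          f x * (starRingEnd ℂ) (f' x) := by
      intro g hg
      rw [(Finset.mem_filter.1 hg).2]
    rw [Finset.sum_congr rfl h2, Finset.sum_const, nsmul_eq_mul]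
    congr 2
    obtain ⟨y, rfl⟩ := QuotientGroup.mk_surjective x
    have h3 : (Finset.univ.filter fun g : G => (QuotientGroup.mk g : G ⧸ U) = QuotientGroup.mk y) =
        (Finset.univ : Finset U).image (fun z : U => y * (z : G)) := by
      ext g
      rw [Finset.mem_filter, Finset.mem_image]
      constructor
      · rintro ⟨-, hg⟩
        exact ⟨⟨y⁻¹ * g, QuotientGroup.eq.1 hg.symm⟩, Finset.mem_univ _,
          mul_inv_cancel_left y g⟩
      · rintro ⟨z, -, rfl⟩
        refine ⟨Finset.mem_univ _, ?_⟩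
        rw [QuotientGroup.eq]
        have h4 : (y * (z : G))⁻¹ * y = (z : G)⁻¹ := by group
        rw [h4]
        exact U.inv_mem z.2
    have h5 : Function.Injective (fun z : U => y * (z : G)) := fun a b hab =>
      Subtype.ext (mul_left_cancel hab)
    rw [h3, Finset.card_image_of_injective _ h5, Finset.card_univ, Nat.card_eq_fintype_card]
  rw [h1, inv_card_eq]
  ring

/-- Every character is on the `p`-regular elements an integer combination of inflated
characters. -/
theorem exists_int_comb (hU : U ≤ Subgroup.center G) (hp : IsPGroup p U)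
    [Fintype (IrrCharacter (G ⧸ U))] (χ : IrrCharacter G) :
    ∃ m : IrrCharacter (G ⧸ U) → ℤ, ∀ g : G, ¬ p ∣ orderOf g →
      (χ : G → ℂ) g = ∑ ψ, (m ψ : ℂ) * (infl U ψ : G → ℂ) g := by
  classical
  have := Fintype.ofFinite G
  have := Fintype.ofFinite (G ⧸ U)
  obtain ⟨n, r, -, h⟩ := exists_regExp p G 0
  let F : G ⧸ U → ℂ := fun x => (χ : G → ℂ) ((Quotient.out x) ^ p ^ n)
  have hF : ∀ g : G, F (QuotientGroup.mk g) = (χ : G → ℂ) (g ^ p ^ n) := by
    intro g
    change (χ : G → ℂ) ((Quotient.out (QuotientGroup.mk g : G ⧸ U)) ^ p ^ n) = _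
    rw [pow_eq_of_mk hU hp h (QuotientGroup.out_eq' (QuotientGroup.mk g : G ⧸ U))]
  have hgen := isGeneralizedCharacter_pow h (Core.isIrr_isCharacter χ.2)
  have hFc : IsClassFunction (G ⧸ U) F := by
    intro x y
    obtain ⟨x, rfl⟩ := QuotientGroup.mk_surjective x
    obtain ⟨y, rfl⟩ := QuotientGroup.mk_surjective y
    rw [← QuotientGroup.mk_mul, ← QuotientGroup.mk_inv, ← QuotientGroup.mk_mul, hF, hF]
    have h1 : (y * x * y⁻¹) ^ p ^ n = y * x ^ p ^ n * y⁻¹ := conj_pow
    rw [h1, Core.isIrr_isClassFunction χ.2]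
  have hFg : IsGeneralizedCharacter (G ⧸ U) F := by
    refine Brauer.isGeneralizedCharacter_of_int hFc fun ψ hψ => ?_
    rw [← classInner_mk]
    have h1 : (fun g : G => F (QuotientGroup.mk g)) = fun g => (χ : G → ℂ) (g ^ p ^ n) :=
      funext hF
    rw [h1]
    obtain ⟨α, β, hα, hβ, hαβ⟩ := hgen
    rw [hαβ]
    have h2 : IsCharacter G (fun g : G => ψ (QuotientGroup.mk g)) :=
      Core.isCharacter_comp (QuotientGroup.mk' U) (Core.isIrr_isCharacter hψ)
    obtain ⟨a, ha⟩ := Core.classInner_isNat hα h2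
    obtain ⟨b, hb⟩ := Core.classInner_isNat hβ h2
    refine ⟨(a : ℤ) - b, ?_⟩
    rw [Core.classInner_sub_left, ha, hb]
    push_cast
    ring
  obtain ⟨m, hm⟩ := Core.isGeneralizedCharacter_iff.1 hFg
  refine ⟨m, fun g hg => ?_⟩
  have h1 := congrFun hm (QuotientGroup.mk g)
  rw [hF, h.pow_of_not_dvd hg, Finset.sum_apply] at h1
  rw [h1]
  refine Finset.sum_congr rfl fun ψ _ => ?_
  rw [Pi.smul_apply, zsmul_eq_mul]
  rfl

/-- Every member of `b` is on the `p`-regular elements an integer combination of inflations of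
members of `defl U b`. -/
theorem exists_int_defl (hM : IsPModular p M) (hU : U ≤ Subgroup.center G) (hp : IsPGroup p U)
    {b : Set (IrrCharacter G)} (hb : IsPBlock M b) [Fintype (defl U b)] {χ : IrrCharacter G}
    (hχ : χ ∈ b) :
    ∃ m : defl U b → ℤ, ∀ g : G, ¬ p ∣ orderOf g →
      (χ : G → ℂ) g = ∑ ψ : defl U b, (m ψ : ℂ) * (infl U (ψ : IrrCharacter (G ⧸ U)) : G → ℂ) g := by
  classical
  have := Core.finite_irr (G := G)
  have := Core.finite_irr (G := G ⧸ U)
  have := Fintype.ofFinite (IrrCharacter (G ⧸ U))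
  have := Fintype.ofFinite (IrrCharacter G)
  obtain ⟨m, hm⟩ := exists_int_comb (p := p) hU hp χ
  refine ⟨fun ψ => m ψ, fun g hg => ?_⟩
  have h1 := eq_zero_of_split hM hb (fun θ => (if θ = χ then (1 : ℂ) else 0) -
    ∑ ψ : IrrCharacter (G ⧸ U), if infl U ψ = θ then (m ψ : ℂ) else 0) (by
      intro x hx
      simp only [sub_mul, Finset.sum_sub_distrib, Finset.sum_mul, ite_mul, one_mul, zero_mul]
      rw [Finset.sum_ite_eq' Finset.univ χ, if_pos (Finset.mem_univ _), Finset.sum_comm, hm x hx,
        sub_eq_zero]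
      refine Finset.sum_congr rfl fun ψ _ => ?_
      rw [Finset.sum_ite_eq Finset.univ (infl U ψ), if_pos (Finset.mem_univ _)]) g hg
  simp only [sub_mul, Finset.sum_sub_distrib, Finset.sum_mul, ite_mul, one_mul, zero_mul] at h1
  rw [Finset.sum_ite_eq' _ χ, if_pos (Finset.mem_filter.2 ⟨Finset.mem_univ _, hχ⟩),
    Finset.sum_comm, sub_eq_zero] at h1
  rw [h1, sum_eq_sum_coe (defl U b) (fun ψ : IrrCharacter (G ⧸ U) =>
    ∑ y with y ∈ b, if infl U ψ = y then (m ψ : ℂ) * (y : G → ℂ) g else 0)]
  · refine Finset.sum_congr rfl fun ψ _ => ?_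
    have h2 : infl U (ψ : IrrCharacter (G ⧸ U)) ∈ b := ψ.2
    rw [Finset.sum_ite_eq _ (infl U (ψ : IrrCharacter (G ⧸ U))),
      if_pos (Finset.mem_filter.2 ⟨Finset.mem_univ _, h2⟩)]
  · intro ψ hψ
    rw [Finset.sum_ite_eq _ (infl U ψ), if_neg]
    intro h
    exact hψ (Finset.mem_filter.1 h).2

/-- The image of a defect group of `b` is a defect group of the dominated block. -/
theorem isDefectGroup_defl (hM : IsPModular p M) (hU : U ≤ Subgroup.center G)
    (hp : IsPGroup p U) {b : Set (IrrCharacter G)} (hb : IsPBlock M b) {D : Subgroup G}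
    (hD : IsDefectGroup p M b D) :
    U ≤ D ∧ IsDefectGroup p M (defl U b) (D.map (QuotientGroup.mk' U)) := by
  classical
  have := isPrime_of_isPModular hM
  have := Fintype.ofFinite G
  have hpr : p.Prime := Fact.out
  obtain ⟨g, hg, P, hP⟩ := hD
  have hgreg : ¬ p ∣ orderOf g := by
    intro h
    apply hg.2.1
    rw [Blocks.Basic.blockCoeff_def, Cfsg.Agent.S0907.result p M hM b hb 1 g (by
      rw [orderOf_one]
      exact hpr.one_lt.ne' ∘ Nat.dvd_one.1) h, mul_zero]
    exact memLocalIdeal_zero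
  have hUC : U ≤ Subgroup.centralizer ({g} : Set G) := by
    intro z hz
    rw [Subgroup.mem_centralizer_singleton_iff]
    exact (Subgroup.mem_center_iff.1 (hU hz) g).symm
  have hUD : U ≤ D := by
    have h1 : IsPGroup p (U.subgroupOf (Subgroup.centralizer ({g} : Set G))) :=
      hp.comap_of_injective _ (Subgroup.subtype_injective _)
    have h2 := h1.le_sylow_of_normal P
    rw [hP]
    intro z hz
    exact ⟨⟨z, hUC hz⟩, h2 (Subgroup.mem_subgroupOf.2 hz), rfl⟩
  refine ⟨hUD, QuotientGroup.mk g, ⟨?_, ?_, ?_⟩, ?_⟩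
  · rw [blockCoeff_defl hM hU hp hb hgreg]; exact hg.1
  · rw [blockCoeff_defl hM hU hp hb hgreg]; exact hg.2.1
  · intro θ hθ
    rw [← centralChar_infl hU hp θ hgreg]
    exact hg.2.2 _ hθ
  · -- the Sylow subgroup
    have hDC : D ≤ Subgroup.centralizer ({g} : Set G) := by
      rw [hP]; exact Subgroup.map_subtype_le _
    have hDp : IsPGroup p D := by
      rw [hP]; exact P.2.map _
    have hDC' : D.map (QuotientGroup.mk' U) ≤
        Subgroup.centralizer ({(QuotientGroup.mk g : G ⧸ U)} : Set (G ⧸ U)) := by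
      rintro _ ⟨x, hx, rfl⟩
      exact (mem_centralizer_iff hU hp hgreg x).2 (hDC hx)
    have hpg : IsPGroup p ((D.map (QuotientGroup.mk' U)).subgroupOf
        (Subgroup.centralizer ({(QuotientGroup.mk g : G ⧸ U)} : Set (G ⧸ U)))) :=
      (hDp.map _).comap_of_injective _ (Subgroup.subtype_injective _)
    have hidx : ¬ p ∣ ((D.map (QuotientGroup.mk' U)).subgroupOf
        (Subgroup.centralizer ({(QuotientGroup.mk g : G ⧸ U)} : Set (G ⧸ U)))).index := by
      have h1 : ((D.map (QuotientGroup.mk' U)).subgroupOf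
        (Subgroup.centralizer ({(QuotientGroup.mk g : G ⧸ U)} : Set (G ⧸ U)))).index =
          D.relIndex (Subgroup.centralizer ({g} : Set G)) := by
        change (D.map (QuotientGroup.mk' U)).relIndex _ = _
        have h2 : Subgroup.centralizer ({(QuotientGroup.mk g : G ⧸ U)} : Set (G ⧸ U)) =
            (Subgroup.centralizer ({g} : Set G)).map (QuotientGroup.mk' U) := by
          ext x
          obtain ⟨x, rfl⟩ := QuotientGroup.mk_surjective x
          rw [mem_centralizer_iff hU hp hgreg x, Subgroup.mem_map]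
          constructor
          · intro hx
            exact ⟨x, hx, rfl⟩
          · rintro ⟨y, hy, hyx⟩
            have h3 : y⁻¹ * x ∈ U := QuotientGroup.eq.1 hyx
            have h4 := (Subgroup.centralizer ({g} : Set G)).mul_mem hy (hUC h3)
            rwa [mul_inv_cancel_left] at h4
        rw [h2, Subgroup.relIndex_map_map, QuotientGroup.ker_mk', sup_eq_left.2 hUD,
          sup_eq_left.2 hUC]
      rw [h1]
      have h2 : D.relIndex (Subgroup.centralizer ({g} : Set G)) =
          (P : Subgroup (Subgroup.centralizer ({g} : Set G))).index := by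
        change (D.subgroupOf (Subgroup.centralizer ({g} : Set G))).index = _
        rw [hP]
        congr 1
        exact Subgroup.comap_map_eq_self_of_injective (Subgroup.subtype_injective _) _
      rw [h2]
      exact P.not_dvd_index
    refine ⟨hpg.toSylow hidx, ?_⟩
    rw [IsPGroup.toSylow_coe, Subgroup.subgroupOf_map_subtype, inf_eq_left.2 hDC']

end central

end Cfsg.Agent.H658
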