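import Cfsg.Agent.H658.Major
import Cfsg.Agent.H658.MajorVal
import Cfsg.Agent.Blocks.PPart
import Cfsg.Agent.H658.HeightZeroSq
import Cfsg.Agent.Blocks.GaloisConj
set_option linter.all false

-- part: H658/SubConj
section
/-!
# Conjugacy of the major subsections attached to the centre of a defect group

* `inducedIn_conj`: block induction inside a subgroup is compatible with conjugation;
* `fuse`: if the major subsections `(z, f)` and `(z', f')` attached to the block `b` of
  `H = D C_G(D)` are conjugate by `x`, then `z' = t z t⁻¹` for some `t` in the stabilizer of `b` in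
  `N_G(D)`.
-/

set_option autoImplicit false

open Cfsg

namespace Cfsg.Agent.H658

open Cfsg.Agent.H662 (eIn coe_eIn coe_eIn_symm exists_defectGroup defectGroup_conj
  isInducedBlockIn_iff tr trB tr_apply tr_apply_map tr_apply_one tr_mem_trB isPBlock_trB
  isDefectGroup_trB mem_trB tr_symm_tr tr_tr_symm)

variable {G : Type*} [Group G]

/-- `e` is conjugation by `g`. -/
def IsCj (g : G) {K K' : Subgroup G} (e : K ≃* K') : Prop := ∀ x : K, ((e x : K') : G) = g * x * g⁻¹

theorem IsCj.unique {g : G} {K K' : Subgroup G} {e e' : K ≃* K'} (h : IsCj g e) (h' : IsCj g e') :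
    e = e' := MulEquiv.ext fun x => Subtype.ext ((h x).trans (h' x).symm)

theorem IsCj.symm {g : G} {K K' : Subgroup G} {e : K ≃* K'} (h : IsCj g e) : IsCj g⁻¹ e.symm := by
  intro x
  have h1 := h (e.symm x)
  rw [e.apply_symm_apply] at h1
  rw [h1]
  group

theorem IsCj.trans {g g' : G} {K K' K'' : Subgroup G} {e : K ≃* K'} {e' : K' ≃* K''}
    (h : IsCj g e) (h' : IsCj g' e') : IsCj (g' * g) (e.trans e') := by
  intro x
  rw [MulEquiv.trans_apply, h' (e x), h x]
  group

theorem trB_trB {K K' K'' : Type*} [Group K] [Group K'] [Group K''] (e : K ≃* K') (e' : K' ≃* K'')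
    (f : Set (IrrCharacter K)) : trB e' (trB e f) = trB (e.trans e') f := by
  ext ξ
  rw [mem_trB, mem_trB, mem_trB]
  exact Iff.rfl

/-- Conjugation by an element of the subgroup fixes every set of irreducible characters. -/
theorem trB_of_mem {c : G} {K : Subgroup G} (hc : c ∈ K) {e : K ≃* K} (h : IsCj c e)
    (f : Set (IrrCharacter K)) : trB e f = f := by
  ext ξ
  rw [mem_trB]
  have h1 : tr e.symm ξ = ξ := by
    apply Subtype.ext
    funext x
    rw [tr_apply, MulEquiv.symm_symm]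
    have h2 : e x = ⟨c, hc⟩ * x * ⟨c, hc⟩⁻¹ := Subtype.ext (h x)
    rw [h2]
    exact Cfsg.Agent.Blocks.Basic.irr_conj ξ.2 x ⟨c, hc⟩
  rw [h1]

/-- The isomorphism of conjugation between a subgroup and its image. -/
noncomputable def cjIso (g : G) (K K' : Subgroup G)
    (h : K.map (MulAut.conj g).toMonoidHom = K') : K ≃* K' :=
  (K.equivMapOfInjective (MulAut.conj g).toMonoidHom (MulAut.conj g).injective).trans
    (MulEquiv.subgroupCongr h)

theorem isCj_cjIso (g : G) (K K' : Subgroup G)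
    (h : K.map (MulAut.conj g).toMonoidHom = K') : IsCj g (cjIso g K K' h) := fun _ => rfl

/-- Block induction inside a subgroup is compatible with conjugation. -/
theorem inducedIn_conj {M : Ideal AlgInt} {K H K' H' : Subgroup G} {g : G} {e : K ≃* K'}
    (he : IsCj g e) {e₂ : H ≃* H'} (he₂ : IsCj g e₂) {b : Set (IrrCharacter K)}
    {f : Set (IrrCharacter H)} (h : IsInducedBlockIn M H K b f) :
    IsInducedBlockIn M H' K' (trB e b) (trB e₂ f) := by
  obtain ⟨hb, hf, h1⟩ := h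
  refine ⟨isPBlock_trB e hb, isPBlock_trB e₂ hf, fun ξ hξ χ hχ y => ?_⟩
  have h2 := h1 _ hξ _ hχ (e₂.symm y)
  have h3 : centralChar (tr e₂.symm χ : H → ℂ) (e₂.symm y) = centralChar (χ : H' → ℂ) y :=
    Cfsg.Agent.H662.centralChar_tr e₂.symm χ y
  have h4 : inducedCentralCharIn H K (tr e.symm ξ : K → ℂ) ((e₂.symm y : H) : G) =
      inducedCentralCharIn H' K' (ξ : K' → ℂ) (y : G) := by
    unfold inducedCentralCharIn
    rw [← finsum_comp_equiv e.toEquiv]
    refine finsum_congr fun k => ?_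
    have hk : (e.toEquiv k ∈ {k : K' | ∃ x : H', (x : G) * (k : G) * (x : G)⁻¹ = (y : G)}) =
        (k ∈ {k : K | ∃ x : H, (x : G) * (k : G) * (x : G)⁻¹ = ((e₂.symm y : H) : G)}) := by
      apply propext
      simp only [Set.mem_ofPred_eq, MulEquiv.toEquiv_eq_coe, EquivLike.coe_coe]
      have h5 := he₂.symm y
      rw [h5]
      constructor
      · rintro ⟨x, hx⟩
        refine ⟨e₂.symm x, ?_⟩
        rw [he₂.symm x, ← hx, he k]
        group
      · rintro ⟨x, hx⟩
        refine ⟨e₂ x, ?_⟩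
        rw [he₂ x, he k]
        have h6 : (y : G) = g * (g⁻¹ * (y : G) * g⁻¹⁻¹) * g⁻¹ := by group
        rw [h6, ← hx]
        group
    rw [hk]
    refine finsum_congr fun _ => ?_
    have h7 : (ξ : K' → ℂ) (e.toEquiv k) = (tr e.symm ξ : K → ℂ) k := by
      rw [tr_apply, MulEquiv.symm_symm]
      rfl
    rw [h7, tr_apply_one]
  rw [h3, h4] at h2
  exact h2

theorem map_centralizer_conj (g z y : G) (h : g * z * g⁻¹ = y) :
    (Subgroup.centralizer ({z} : Set G)).map (MulAut.conj g).toMonoidHom =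
      Subgroup.centralizer ({y} : Set G) := by
  rw [← h, ← Cfsg.Agent.Blocks.Basic.centralizer_conj]

theorem map_centralizer_conj' {g z y : G} {C C' : Subgroup G}
    (hC : C = Subgroup.centralizer ({z} : Set G)) (hC' : C' = Subgroup.centralizer ({y} : Set G))
    (h : g * z * g⁻¹ = y) : C.map (MulAut.conj g).toMonoidHom = C' := by
  rw [hC, hC', map_centralizer_conj g z y h]

theorem map_root_conj {D : Subgroup G} {u : G} (hu : D.map (MulAut.conj u).toMonoidHom = D) :
    (D ⊔ Subgroup.centralizer (D : Set G)).map (MulAut.conj u).toMonoidHom =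
      D ⊔ Subgroup.centralizer (D : Set G) := by
  rw [Subgroup.map_sup, hu]
  congr 1
  have h1 : Subgroup.centralizer (((D.map (MulAut.conj u).toMonoidHom : Subgroup G)) : Set G) =
      (Subgroup.centralizer (D : Set G)).map (MulAut.conj u).toMonoidHom := by
    ext x
    rw [Subgroup.mem_centralizer_iff, Subgroup.mem_map]
    constructor
    · intro h
      refine ⟨u⁻¹ * x * u, ?_, by simp [MulAut.conj_apply]; group⟩
      rw [Subgroup.mem_centralizer_iff]
      intro w hw
      have h2 := h (u * w * u⁻¹) ⟨w, hw, rfl⟩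
      calc w * (u⁻¹ * x * u) = u⁻¹ * ((u * w * u⁻¹) * x) * u := by group
        _ = u⁻¹ * (x * (u * w * u⁻¹)) * u := by rw [h2]
        _ = u⁻¹ * x * u * w := by group
    · rintro ⟨y, hy, rfl⟩ w ⟨v, hv, rfl⟩
      rw [Subgroup.mem_centralizer_iff] at hy
      have h2 := hy v hv
      simp only [MulEquiv.toMonoidHom_eq_coe, MonoidHom.coe_coe, MulAut.conj_apply]
      calc u * v * u⁻¹ * (u * y * u⁻¹) = u * (v * y) * u⁻¹ := by group
        _ = u * (y * v) * u⁻¹ := by rw [h2]
        _ = u * y * u⁻¹ * (u * v * u⁻¹) := by group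
  rw [← h1, hu]

theorem mem_normalizer_of_map_eq {D : Subgroup G} {u : G}
    (hu : D.map (MulAut.conj u).toMonoidHom = D) : u ∈ Subgroup.normalizer (D : Set G) := by
  rw [Subgroup.mem_normalizer_iff]
  intro h
  constructor
  · intro hh
    have h1 : u * h * u⁻¹ ∈ D.map (MulAut.conj u).toMonoidHom := ⟨h, hh, rfl⟩
    rw [hu] at h1
    exact h1
  · intro hh
    have h1 : u * h * u⁻¹ ∈ D.map (MulAut.conj u).toMonoidHom := by rw [hu]; exact hh
    obtain ⟨w, hw, hw'⟩ := h1
    have h2 : w = h := by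
      have h3 : u * w * u⁻¹ = u * h * u⁻¹ := hw'
      exact mul_left_cancel (mul_right_cancel h3)
    rw [← h2]
    exact hw

/-- Membership in a mapped subgroup, for subgroups of the domain. -/
theorem map_subgroupOf_cj {g : G} {K K' D : Subgroup G} {e : K ≃* K'} (he : IsCj g e) :
    (D.subgroupOf K).map e.toMonoidHom = (D.map (MulAut.conj g).toMonoidHom).subgroupOf K' := by
  ext x
  rw [Subgroup.mem_map, Subgroup.mem_subgroupOf, Subgroup.mem_map]
  constructor
  · rintro ⟨y, hy, rfl⟩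
    rw [Subgroup.mem_subgroupOf] at hy
    exact ⟨y, hy, (he y).symm⟩
  · rintro ⟨w, hw, hwx⟩
    refine ⟨e.symm x, ?_, e.apply_symm_apply x⟩
    rw [Subgroup.mem_subgroupOf, he.symm x, ← hwx]
    have h1 : g⁻¹ * (MulAut.conj g).toMonoidHom w * g⁻¹⁻¹ = w := by
      simp only [MulEquiv.toMonoidHom_eq_coe, MonoidHom.coe_coe, MulAut.conj_apply]
      group
    rw [h1]
    exact hw

/-- **Fusion of major subsections.** -/
theorem fuse [Finite G] {p : ℕ} [Fact p.Prime] {M : Ideal AlgInt} (hM : IsPModular p M)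
    {D C C' H : Subgroup G} {z z' : G} (hC : C = Subgroup.centralizer ({z} : Set G))
    (hC' : C' = Subgroup.centralizer ({z'} : Set G))
    (hH : H = D ⊔ Subgroup.centralizer (D : Set G)) (hz' : z' ∈ D)
    (hzc' : ∀ w ∈ D, z' * w = w * z')
    {b : Set (IrrCharacter H)} {f : Set (IrrCharacter C)}
    (hf : IsInducedBlockIn M C H b f)
    (hfD : IsDefectGroup p M f (D.subgroupOf C))
    (hDz : D ≤ C)
    {f' : Set (IrrCharacter C')}
    (hf' : IsInducedBlockIn M C' H b f')
    (hfD' : IsDefectGroup p M f' (D.subgroupOf C'))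
    (x : G) (hx : x * z * x⁻¹ = z')
    {e : C ≃* C'}
    (he : IsCj x e) (hef : trB e f = f') :
    ∃ t : G, t * z * t⁻¹ = z' ∧ t ∈ Subgroup.normalizer (D : Set G) ∧
      ∀ θ ∈ b, ∀ θ' : IrrCharacter H,
        (∀ h h' : H, (h' : G) = t * h * t⁻¹ →
          (θ' : H → ℂ) h' = (θ : H → ℂ) h) → θ' ∈ b := by
  classical
  have hDC' : D ≤ C' := by rw [hC']; exact le_centralizer_of_mem_center hzc'
  have hHC' : H ≤ C' := by rw [hC', hH]; exact root_le_centralizer hz' hzc'
  -- two defect groups of `f'`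
  have h1 : IsDefectGroup p M f' ((D.map (MulAut.conj x).toMonoidHom).subgroupOf C') := by
    rw [← map_subgroupOf_cj he, ← hef]
    exact isDefectGroup_trB e hfD
  obtain ⟨c, hc⟩ := defectGroup_conj hM hf'.2.1 h1 hfD'
  have hxD : D.map (MulAut.conj x).toMonoidHom ≤ C' := by
    rintro _ ⟨w, hw, rfl⟩
    have h2 := he ⟨w, hDz hw⟩
    change x * w * x⁻¹ ∈ C'
    rw [← h2]
    exact (e ⟨w, hDz hw⟩).2
  -- the element `u = c x` normalises `D`
  have hu : D.map (MulAut.conj ((c : G) * x)).toMonoidHom = D := by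
    rw [← Cfsg.Agent.Blocks.Basic.map_conj_map_conj]
    have h2 := congrArg (Subgroup.map C'.subtype) hc
    rw [Subgroup.subgroupOf_map_subtype, inf_eq_left.2 hDC', Subgroup.map_map] at h2
    have h3 : (C'.subtype).comp (MulAut.conj c).toMonoidHom =
        (MulAut.conj (c : G)).toMonoidHom.comp C'.subtype := by
      ext y
      simp
    rw [h3, ← Subgroup.map_map, Subgroup.subgroupOf_map_subtype, inf_eq_left.2 hxD] at h2
    exact h2.symm
  obtain ⟨u, hudef⟩ : ∃ u : G, u = (c : G) * x := ⟨_, rfl⟩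
  rw [← hudef] at hu
  have huN := mem_normalizer_of_map_eq hu
  have hcz : (c : G) * z' * (c : G)⁻¹ = z' := by
    have h2 := Subgroup.mem_centralizer_singleton_iff.1 (hC' ▸ c.2 :
      (c : G) ∈ Subgroup.centralizer ({z'} : Set G))
    rw [h2]; group
  have huz : u * z * u⁻¹ = z' := by
    rw [hudef]
    calc (c : G) * x * z * ((c : G) * x)⁻¹ = (c : G) * (x * z * x⁻¹) * (c : G)⁻¹ := by group
      _ = z' := by rw [hx, hcz]
  -- conjugation by `u`
  have hHu : H.map (MulAut.conj u).toMonoidHom = H := by rw [hH]; exact map_root_conj hu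
  have hCu : C.map (MulAut.conj u).toMonoidHom = C' := map_centralizer_conj' hC hC' huz
  have hCc : C'.map (MulAut.conj (c : G)).toMonoidHom = C' := map_centralizer_conj' hC' hC' hcz
  have heHc := isCj_cjIso u H H hHu
  have heCc := isCj_cjIso u C C' hCu
  have h2 := inducedIn_conj heHc heCc hf
  have h3 : trB (cjIso u C C' hCu) f = f' := by
    have hecc : IsCj (c : G) (cjIso (c : G) C' C' hCc) := isCj_cjIso (c : G) C' C' hCc
    have h4 : cjIso u C C' hCu = e.trans (cjIso (c : G) C' C' hCc) := by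
      have h5 := he.trans hecc
      rw [← hudef] at h5
      exact heCc.unique h5
    rw [h4, ← trB_trB, hef, trB_of_mem c.2 hecc]
  rw [h3] at h2
  -- the extended first main theorem in `C'`
  have heq : D.subgroupOf C' ⊔ Subgroup.centralizer ((D.subgroupOf C' : Subgroup C') : Set C') =
      H.subgroupOf C' := by
    apply Subgroup.map_injective C'.subtype_injective
    have h5 : (D.subgroupOf C').map C'.subtype = D := by
      rw [Subgroup.subgroupOf_map_subtype, inf_eq_left.2 hDC']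
    have h6 : Subgroup.centralizer (((D.subgroupOf C').map C'.subtype : Subgroup G) : Set G) ≤
        C' := by
      rw [h5]
      refine le_trans ?_ hHC'
      rw [hH]
      exact le_sup_right
    rw [Subgroup.map_sup, Cfsg.Agent.H662.map_centralizer_eq _ h6, h5,
      Subgroup.subgroupOf_map_subtype, inf_eq_left.2 hHC', hH]
  have key := (Cfsg.Agent.S0973.result p M hM f' hf'.2.1 (D.subgroupOf C') hfD').2
  rw [heq] at key
  obtain ⟨n, hn, hnθ⟩ := key _ _ ((isInducedBlockIn_iff hHC').1 h2)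
    ((isInducedBlockIn_iff hHC').1 hf')
  have hnN : ∀ w : G, w ∈ D → (n : G) * w * (n : G)⁻¹ ∈ D := by
    intro w hw
    have h5 := (Subgroup.mem_normalizer_iff.1 hn ⟨w, hDC' hw⟩).1 (Subgroup.mem_subgroupOf.2 hw)
    exact h5
  have hnD : D.map (MulAut.conj (n : G)).toMonoidHom = D := by
    refine Subgroup.eq_of_le_of_card_ge ?_ ?_
    · rintro _ ⟨w, hw, rfl⟩
      exact hnN w hw
    · exact (Nat.card_congr (Subgroup.equivMapOfInjective _ _
        (MulAut.conj (n : G)).injective).toEquiv).le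
  have hnDN : (n : G) ∈ Subgroup.normalizer (D : Set G) := mem_normalizer_of_map_eq hnD
  have hnz : (n : G)⁻¹ * z' * (n : G) = z' := by
    have h5 := Subgroup.mem_centralizer_singleton_iff.1 (hC' ▸ n.2 :
      (n : G) ∈ Subgroup.centralizer ({z'} : Set G))
    rw [mul_assoc, ← h5]; group
  refine ⟨(n : G)⁻¹ * u, ?_, ?_, ?_⟩
  · calc (n : G)⁻¹ * u * z * ((n : G)⁻¹ * u)⁻¹ = (n : G)⁻¹ * (u * z * u⁻¹) * (n : G) := by group
      _ = z' := by rw [huz, hnz]
  · exact Subgroup.mul_mem _ (Subgroup.inv_mem _ hnDN) huN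
  · intro θ hθ θ' hθθ'
    -- the member of `b` obtained from `θ`
    have hθ1 : tr (eIn hHC').symm (tr (cjIso u H H hHu) θ) ∈
        trB (eIn hHC').symm (trB (cjIso u H H hHu) b) :=
      (tr_mem_trB _ _ _).2 ((tr_mem_trB _ _ _).2 hθ)
    obtain ⟨θ₂, hθ₂, h5⟩ := hnθ _ hθ1
    have h6 : tr (eIn hHC') θ₂ ∈ b := by
      rw [mem_trB, MulEquiv.symm_symm] at hθ₂
      exact hθ₂
    have h7 : θ' = tr (eIn hHC') θ₂ := by
      apply Subtype.ext
      funext h'
      rw [tr_apply]
      have hHn : (n : G) * (h' : G) * (n : G)⁻¹ ∈ H := by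
        have h8 : H.map (MulAut.conj (n : G)).toMonoidHom = H := by
          rw [hH]; exact map_root_conj hnD
        exact h8.le ⟨(h' : G), h'.2, rfl⟩
      have h9 := h5 ((eIn hHC').symm h') (by
        rw [Subgroup.mem_subgroupOf]
        exact hHn)
      rw [h9, tr_apply, MulEquiv.symm_symm]
      -- both sides are values of `θ`
      have h10 := heHc.symm ⟨(n : G) * (h' : G) * (n : G)⁻¹, hHn⟩
      rw [hθθ' ((cjIso u H H hHu).symm ⟨(n : G) * (h' : G) * (n : G)⁻¹, hHn⟩) h' (by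
        rw [h10]
        group)]
      rfl
    rw [h7]
    exact h6

end Cfsg.Agent.H658
end

-- part: H658/SumMajor
section
/-!
# The sum of the contributions of a family of subsections

`cn p y b χ` is the real number `contr p y b χ χ`.

* `cn_trB`: invariance under conjugation;
* `sum_cn_le`: the sum over distinct blocks `b` of `H ≤ G` is at most
  `|H|⁻¹ ∑_{c ∈ H p-regular} |χ (y c)| ^ 2`;
* `sum_major_le`: for a family of subsections `(u i, f i)` with at most `e` members in each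
  conjugacy class, the sum of the contributions to `(χ, χ)` is at most `e`.
-/

set_option autoImplicit false
set_option linter.unusedSectionVars false

open Cfsg
open scoped ComplexConjugate

namespace Cfsg.Agent.H658

open Cfsg.Agent.Blocks.Local Cfsg.Agent.Characters Cfsg.Agent.Blocks.Blau
open Cfsg.Agent.H613.RegGram Cfsg.Agent.H613.Contrib Cfsg.Agent.H613.ContribVal
open Cfsg.Agent.H662 (tr trB tr_apply tr_apply_map tr_apply_one tr_mem_trB isPBlock_trB mem_trB
  tr_symm_tr tr_tr_symm trB_symm_trB)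

variable {G : Type*} [Group G] [Finite G] {p : ℕ}

/-- The contribution of `(y, b)` to the norm of `χ`, as a real number. -/
noncomputable def cn (p : ℕ) (y : G) {H : Subgroup G} (b : Set (IrrCharacter H)) (χ : G → ℂ) : ℝ :=
  letI := Fintype.ofFinite H
  ∑ᶠ η ∈ b, ‖wt p y χ (η : H → ℂ)‖ ^ 2

theorem cn_def (p : ℕ) (y : G) {H : Subgroup G} [Fintype H] (b : Set (IrrCharacter H))
    (χ : G → ℂ) : cn p y b χ = ∑ᶠ η ∈ b, ‖wt p y χ (η : H → ℂ)‖ ^ 2 := by
  unfold cn
  have h : Fintype.ofFinite H = ‹Fintype H› := Subsingleton.elim _ _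
  rw [h]

theorem cn_nonneg (p : ℕ) (y : G) {H : Subgroup G} (b : Set (IrrCharacter H))
    (χ : G → ℂ) : 0 ≤ cn p y b χ := by
  unfold cn
  exact finsum_nonneg fun η => finsum_nonneg fun _ => by positivity

theorem contr_self_eq_cn (p : ℕ) (y : G) {H : Subgroup G} [Fintype H] (b : Set (IrrCharacter H))
    [Fintype b] (χ : G → ℂ) : contr p y b χ χ = (cn p y b χ : ℂ) := by
  rw [contr_self_eq, cn_def, ← finsum_set_coe_eq_finsum_mem, finsum_eq_sum_of_fintype]

/-- `rg` is compatible with isomorphisms. -/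
theorem rg_comp_equiv {K K' : Type*} [Group K] [Group K'] [Fintype K] [Fintype K'] (p : ℕ)
    (e : K ≃* K') (f f' : K' → ℂ) : rg p (fun x => f (e x)) (fun x => f' (e x)) = rg p f f' := by
  classical
  rw [rg_def, rg_def, pair_eq_sum_filter, pair_eq_sum_filter, Nat.card_congr e.toEquiv]
  congr 1
  rw [Finset.sum_filter, Finset.sum_filter, ← Equiv.sum_comp e.toEquiv]
  refine Finset.sum_congr rfl fun x _ => ?_
  have h1 : orderOf (e.toEquiv x) = orderOf x := MulEquiv.orderOf_eq e x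
  rw [h1]
  rfl

/-- Invariance under conjugation. -/
theorem cn_trB {z y g : G} (h : g * z * g⁻¹ = y) {K K' : Subgroup G} {e : K ≃* K'}
    (he : IsCj g e) (b : Set (IrrCharacter K)) {χ : G → ℂ} (hχ : IsClassFunction G χ) :
    cn p y (trB e b) χ = cn p z b χ := by
  have := Fintype.ofFinite K
  have := Fintype.ofFinite K'
  rw [cn_def, cn_def, Cfsg.Agent.H662.finsum_trB]
  refine finsum_mem_congr rfl fun η _ => ?_
  congr 2
  rw [wt_def, wt_def, ← rg_comp_equiv p e]
  congr 1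
  · funext c
    rw [he c, ← h]
    have h1 : g * z * g⁻¹ * (g * (c : G) * g⁻¹) = g * (z * (c : G)) * g⁻¹ := by group
    rw [h1, hχ]
  · funext c
    exact tr_apply_map e η c

/-- Parseval. -/
theorem sum_wt_sq {y : G} {H : Subgroup G} [Fintype H] [Fintype (IrrCharacter H)]
    (hH : H = Subgroup.centralizer ({y} : Set G)) {χ : G → ℂ} (hχ : IsClassFunction G χ)
    [DecidablePred fun x : H => ¬ p ∣ orderOf x] :
    ∑ η : IrrCharacter H, ‖wt p y χ (η : H → ℂ)‖ ^ 2 =
      (Nat.card H : ℝ)⁻¹ * ∑ c : H with ¬ p ∣ orderOf c, ‖χ (y * (c : G))‖ ^ 2 := by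
  have h1 := rg_eq_sum p (isClassFunction_mul hH hχ) (isClassFunction_mul hH hχ)
  rw [rg_def, pair_eq_sum_filter] at h1
  have h2 : ((∑ η : IrrCharacter H, ‖wt p y χ (η : H → ℂ)‖ ^ 2 : ℝ) : ℂ) =
      (((Nat.card H : ℝ)⁻¹ * ∑ c : H with ¬ p ∣ orderOf c, ‖χ (y * (c : G))‖ ^ 2 : ℝ) : ℂ) := by
    push_cast
    have h3 : ∀ z : ℂ, (‖z‖ : ℂ) ^ 2 = z * conj z := by
      intro z
      rw [Complex.mul_conj, Complex.normSq_eq_norm_sq]
      push_cast
      rfl
    simp only [h3]
    exact h1.symm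
  exact_mod_cast h2

variable [Fact p.Prime] {M : Ideal AlgInt}

/-- The sum of the contributions of distinct blocks. -/
theorem sum_cn_le (hM : IsPModular p M) {y : G} {H : Subgroup G} [Fintype H]
    (hH : H = Subgroup.centralizer ({y} : Set G)) {χ : G → ℂ} (hχ : IsClassFunction G χ)
    [DecidablePred fun x : H => ¬ p ∣ orderOf x]
    (S : Finset (Set (IrrCharacter H))) (hS : ∀ b ∈ S, IsPBlock M b) :
    ∑ b ∈ S, cn p y b χ ≤
      (Nat.card H : ℝ)⁻¹ * ∑ c : H with ¬ p ∣ orderOf c, ‖χ (y * (c : G))‖ ^ 2 := by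
  classical
  have := isPrime_of_isPModular hM
  have := Core.finite_irr (G := H)
  have := Fintype.ofFinite (IrrCharacter H)
  rw [← sum_wt_sq hH hχ]
  have h1 : ∀ b : Set (IrrCharacter H), cn p y b χ =
      ∑ η : IrrCharacter H with η ∈ b, ‖wt p y χ (η : H → ℂ)‖ ^ 2 := by
    intro b
    rw [cn_def, Cfsg.Agent.H648.HeightForm.finsum_mem_filter]
  rw [Finset.sum_congr rfl fun b _ => h1 b, ← Finset.sum_biUnion]
  · exact Finset.sum_le_univ_sum_of_nonneg fun η => by positivity
  · intro b hb b' hb' hne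
    change Disjoint _ _
    rw [Finset.disjoint_left]
    intro η hη hη'
    apply hne
    have h2 : η ∈ b := (Finset.mem_filter.1 hη).2
    have h3 : η ∈ b' := (Finset.mem_filter.1 hη').2
    rw [Blocks.Basic.isPBlock_eq_blockOf (hS b hb) h2,
      Blocks.Basic.isPBlock_eq_blockOf (hS b' hb') h3]

/-- The number of pairs `(j, g)` giving a fixed subsection. -/
theorem card_fiber_le {ι : Type*} [Finite ι] (u : ι → G)
    (f : ∀ i, Set (IrrCharacter (Subgroup.centralizer ({u i} : Set G)))) {e : ℕ}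
    (hfib : ∀ i, Nat.card {j : ι // ∃ (x : G) (ε : Subgroup.centralizer ({u j} : Set G) ≃*
      Subgroup.centralizer ({u i} : Set G)), IsCj x ε ∧ x * u j * x⁻¹ = u i ∧
        trB ε (f j) = f i} ≤ e) (y : G) (ψ : {s : ι × G // s.2 * u s.1 * s.2⁻¹ = y} →
      Set (IrrCharacter (Subgroup.centralizer ({y} : Set G))))
    (hψ : ∀ s, ψ s = trB (cjIso s.1.2 (Subgroup.centralizer ({u s.1.1} : Set G))
      (Subgroup.centralizer ({y} : Set G)) (map_centralizer_conj _ _ _ s.2)) (f s.1.1))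
    (s₀ : {s : ι × G // s.2 * u s.1 * s.2⁻¹ = y}) :
    Nat.card {s : {s : ι × G // s.2 * u s.1 * s.2⁻¹ = y} // ψ s = ψ s₀} ≤
      e * Nat.card (Subgroup.centralizer ({y} : Set G)) := by
  classical
  obtain ⟨⟨i₀, g₀⟩, hs₀⟩ := s₀
  dsimp only at hs₀
  let J := {j : ι // ∃ (x : G) (ε : Subgroup.centralizer ({u j} : Set G) ≃*
      Subgroup.centralizer ({u i₀} : Set G)), IsCj x ε ∧ x * u j * x⁻¹ = u i₀ ∧
        trB ε (f j) = f i₀}
  have hx : ∀ j : J, ∃ x : G, x * u j.1 * x⁻¹ = u i₀ := fun j => by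
    obtain ⟨x, -, -, h, -⟩ := j.2
    exact ⟨x, h⟩
  choose x hx using hx
  have hJ : ∀ s : {s : {s : ι × G // s.2 * u s.1 * s.2⁻¹ = y} // ψ s = ψ ⟨(i₀, g₀), hs₀⟩},
      ∃ (x : G) (ε : Subgroup.centralizer ({u s.1.1.1} : Set G) ≃*
      Subgroup.centralizer ({u i₀} : Set G)), IsCj x ε ∧ x * u s.1.1.1 * x⁻¹ = u i₀ ∧
        trB ε (f s.1.1.1) = f i₀ := by
    rintro ⟨⟨⟨j, g⟩, hs⟩, hψs⟩
    dsimp only at hs ⊢
    have e1 := isCj_cjIso g (Subgroup.centralizer ({u j} : Set G))
      (Subgroup.centralizer ({y} : Set G)) (map_centralizer_conj _ _ _ hs)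
    have e2 := isCj_cjIso g₀ (Subgroup.centralizer ({u i₀} : Set G))
      (Subgroup.centralizer ({y} : Set G)) (map_centralizer_conj _ _ _ hs₀)
    refine ⟨g₀⁻¹ * g, _, e1.trans e2.symm, ?_, ?_⟩
    · have h1 : g₀⁻¹ * g * u j * (g₀⁻¹ * g)⁻¹ = g₀⁻¹ * (g * u j * g⁻¹) * g₀ := by group
      rw [h1, hs, ← hs₀]
      group
    · rw [hψ, hψ] at hψs
      dsimp only at hψs
      rw [← trB_trB, hψs, trB_symm_trB]
  let F : {s : {s : ι × G // s.2 * u s.1 * s.2⁻¹ = y} // ψ s = ψ ⟨(i₀, g₀), hs₀⟩} →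
      J × Subgroup.centralizer ({y} : Set G) := fun s =>
    (⟨s.1.1.1, hJ s⟩, ⟨s.1.1.2 * (g₀ * x ⟨s.1.1.1, hJ s⟩)⁻¹, by
      rw [Subgroup.mem_centralizer_singleton_iff]
      have h1 := s.1.2
      have h2 := hx ⟨s.1.1.1, hJ s⟩
      dsimp only at h2
      have h3 : (g₀ * x ⟨s.1.1.1, hJ s⟩) * u s.1.1.1 * (g₀ * x ⟨s.1.1.1, hJ s⟩)⁻¹ = y := by
        calc g₀ * x ⟨s.1.1.1, hJ s⟩ * u s.1.1.1 * (g₀ * x ⟨s.1.1.1, hJ s⟩)⁻¹ =
            g₀ * (x ⟨s.1.1.1, hJ s⟩ * u s.1.1.1 * (x ⟨s.1.1.1, hJ s⟩)⁻¹) * g₀⁻¹ := by group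
          _ = g₀ * u i₀ * g₀⁻¹ := by rw [h2]
          _ = y := hs₀
      generalize g₀ * x ⟨s.1.1.1, hJ s⟩ = w at h3
      calc s.1.1.2 * w⁻¹ * y = s.1.1.2 * w⁻¹ * (w * u s.1.1.1 * w⁻¹) := by rw [h3]
        _ = s.1.1.2 * u s.1.1.1 * s.1.1.2⁻¹ * (s.1.1.2 * w⁻¹) := by group
        _ = y * (s.1.1.2 * w⁻¹) := by rw [h1]⟩)
  have hF : Function.Injective F := by
    rintro ⟨⟨⟨j, g⟩, hs⟩, hψs⟩ ⟨⟨⟨j', g'⟩, hs'⟩, hψs'⟩ h
    have h1 : j = j' := congrArg (fun t => t.1.1) h
    subst h1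
    have h2 : g * (g₀ * x _)⁻¹ = g' * (g₀ * x _)⁻¹ := congrArg (fun t => ((t.2 : _) : G)) h
    have h3 : g = g' := mul_right_cancel h2
    subst h3
    rfl
  calc Nat.card _ ≤ Nat.card (J × Subgroup.centralizer ({y} : Set G)) :=
        Nat.card_le_card_of_injective F hF
    _ = Nat.card J * Nat.card (Subgroup.centralizer ({y} : Set G)) := Nat.card_prod _ _
    _ ≤ e * Nat.card (Subgroup.centralizer ({y} : Set G)) := Nat.mul_le_mul_right _ (hfib i₀)

/-- The part of the sum at `y`. -/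
theorem sum_at_le (hM : IsPModular p M) {ι : Type*} [Fintype ι] [Fintype G] (u : ι → G)
    (f : ∀ i, Set (IrrCharacter (Subgroup.centralizer ({u i} : Set G))))
    (hf : ∀ i, IsPBlock M (f i)) {e : ℕ}
    (hfib : ∀ i, Nat.card {j : ι // ∃ (x : G) (ε : Subgroup.centralizer ({u j} : Set G) ≃*
      Subgroup.centralizer ({u i} : Set G)), IsCj x ε ∧ x * u j * x⁻¹ = u i ∧
        trB ε (f j) = f i} ≤ e) (y : G) {χ : G → ℂ} (hχ : IsClassFunction G χ)
    [Fintype (Subgroup.centralizer ({y} : Set G))]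
    [DecidablePred fun x : Subgroup.centralizer ({y} : Set G) => ¬ p ∣ orderOf x]
    [DecidablePred fun s : ι × G => s.2 * u s.1 * s.2⁻¹ = y] :
    ∑ s : ι × G with s.2 * u s.1 * s.2⁻¹ = y, cn p (u s.1) (f s.1) χ ≤
      (e : ℝ) * ∑ c : Subgroup.centralizer ({y} : Set G) with ¬ p ∣ orderOf c,
        ‖χ (y * (c : G))‖ ^ 2 := by
  classical
  have := isPrime_of_isPModular hM
  let ψ : {s : ι × G // s.2 * u s.1 * s.2⁻¹ = y} →
      Set (IrrCharacter (Subgroup.centralizer ({y} : Set G))) := fun s =>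
    trB (cjIso s.1.2 (Subgroup.centralizer ({u s.1.1} : Set G))
      (Subgroup.centralizer ({y} : Set G)) (map_centralizer_conj _ _ _ s.2)) (f s.1.1)
  have hcn : ∀ s, cn p (u s.1.1) (f s.1.1) χ = cn p y (ψ s) χ := by
    rintro ⟨⟨j, g⟩, hs⟩
    exact (cn_trB hs (isCj_cjIso g _ _ (map_centralizer_conj _ _ _ hs)) (f j) hχ).symm
  have h1 : ∑ s : ι × G with s.2 * u s.1 * s.2⁻¹ = y, cn p (u s.1) (f s.1) χ =
      ∑ s : {s : ι × G // s.2 * u s.1 * s.2⁻¹ = y}, cn p y (ψ s) χ := by
    rw [Finset.sum_subtype (p := fun s : ι × G => s.2 * u s.1 * s.2⁻¹ = y) _ (fun s => by simp)]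
    exact Finset.sum_congr rfl fun s _ => hcn s
  rw [h1, Finset.sum_comp (fun b => cn p y b χ) ψ]
  have h2 := sum_cn_le hM (y := y) rfl hχ (Finset.univ.image ψ) (by
    intro b hb
    obtain ⟨s, -, rfl⟩ := Finset.mem_image.1 hb
    exact isPBlock_trB _ (hf _))
  have h3 : ∀ b ∈ Finset.univ.image ψ, (Finset.univ.filter fun s => ψ s = b).card •
      cn p y b χ ≤ (e : ℝ) * (Nat.card (Subgroup.centralizer ({y} : Set G)) : ℝ) *
        cn p y b χ := by
    intro b hb
    obtain ⟨s₀, -, rfl⟩ := Finset.mem_image.1 hb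
    rw [nsmul_eq_mul]
    refine mul_le_mul_of_nonneg_right ?_ (cn_nonneg _ _ _ _)
    have h4 := card_fiber_le u f hfib y ψ (fun _ => rfl) s₀
    rw [Nat.card_eq_fintype_card, Fintype.card_subtype] at h4
    exact_mod_cast h4
  refine (Finset.sum_le_sum h3).trans ?_
  rw [← Finset.mul_sum, mul_assoc]
  refine mul_le_mul_of_nonneg_left ?_ (Nat.cast_nonneg e)
  have hC : (0 : ℝ) < (Nat.card (Subgroup.centralizer ({y} : Set G)) : ℝ) := by
    exact_mod_cast Nat.card_pos
  rw [← le_inv_mul_iff₀ hC]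
  exact h2

/-- The sum over the sections. -/
theorem sum_sections_le [Fintype G] (χ : G → ℂ) (Y : Finset G)
    (hY : ∀ y ∈ Y, ∃ k : ℕ, orderOf y = p ^ k)
    [∀ y : G, Fintype (Subgroup.centralizer ({y} : Set G))]
    [∀ y : G, DecidablePred fun x : Subgroup.centralizer ({y} : Set G) => ¬ p ∣ orderOf x] :
    ∑ y ∈ Y, ∑ c : Subgroup.centralizer ({y} : Set G) with ¬ p ∣ orderOf c,
      ‖χ (y * (c : G))‖ ^ 2 ≤ ∑ g : G, ‖χ g‖ ^ 2 := by
  classical
  rw [Finset.sum_sigma' Y (fun y => Finset.univ.filter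
    fun c : Subgroup.centralizer ({y} : Set G) => ¬ p ∣ orderOf c)
    (fun y c => ‖χ (y * (c : G))‖ ^ 2)]
  have hinj : Set.InjOn (fun s : (y : G) × Subgroup.centralizer ({y} : Set G) =>
      s.1 * (s.2 : G)) (Y.sigma fun y => Finset.univ.filter
      fun c : Subgroup.centralizer ({y} : Set G) => ¬ p ∣ orderOf c :
        Finset ((y : G) × Subgroup.centralizer ({y} : Set G))) := by
    rintro ⟨y, c⟩ hs ⟨y', c'⟩ hs' h
    dsimp only at h
    rw [Finset.mem_coe, Finset.mem_sigma, Finset.mem_filter] at hs hs'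
    have key : ∀ (y : G) (c : Subgroup.centralizer ({y} : Set G)), y ∈ Y → ¬ p ∣ orderOf c →
        IsPPart p (y * (c : G)) y := by
      intro y c hy hc
      refine ⟨c, rfl, ?_, hY y hy, ?_⟩
      · exact (Subgroup.mem_centralizer_singleton_iff.1 c.2).symm
      · rw [Subgroup.orderOf_coe]; exact hc
    have h1 := key y c hs.1 hs.2.2
    have h2 := key y' c' hs'.1 hs'.2.2
    rw [h] at h1
    have h3 : y = y' := Blocks.PPart.isPPart_unique h1 h2
    subst h3
    have h4 : c = c' := Subtype.ext (mul_left_cancel h)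
    rw [h4]
  rw [← Finset.sum_image (f := fun g : G => ‖χ g‖ ^ 2) hinj]
  exact Finset.sum_le_univ_sum_of_nonneg fun η => by positivity

/-- For a family of subsections with at most `e` members in each conjugacy class, the sum of the
contributions to the norm of an irreducible character is at most `e`. -/
theorem sum_major_le (hM : IsPModular p M) {ι : Type*} [Fintype ι] (u : ι → G)
    (hu : ∀ i, ∃ k : ℕ, orderOf (u i) = p ^ k)
    (f : ∀ i, Set (IrrCharacter (Subgroup.centralizer ({u i} : Set G))))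
    (hf : ∀ i, IsPBlock M (f i)) {e : ℕ}
    (hfib : ∀ i, Nat.card {j : ι // ∃ (x : G) (ε : Subgroup.centralizer ({u j} : Set G) ≃*
      Subgroup.centralizer ({u i} : Set G)), IsCj x ε ∧ x * u j * x⁻¹ = u i ∧
        trB ε (f j) = f i} ≤ e) (χ : IrrCharacter G) :
    ∑ i, cn p (u i) (f i) (χ : G → ℂ) ≤ e := by
  classical
  have := Fintype.ofFinite G
  have hcls := Core.isIrr_isClassFunction χ.2
  have hG : (0 : ℝ) < (Nat.card G : ℝ) := by exact_mod_cast Nat.card_pos
  -- norm one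
  have hnorm : ∑ g : G, ‖(χ : G → ℂ) g‖ ^ 2 = Nat.card G := by
    have h1 := Core.classInner_irr_self χ.2
    rw [Blocks.Basic.classInner_def] at h1
    have h2 : (Nat.card G : ℂ) ≠ 0 := by exact_mod_cast Nat.card_pos.ne'
    have h3 : ∑ g : G, (χ : G → ℂ) g * conj ((χ : G → ℂ) g) = Nat.card G := by
      have h4 := congrArg (fun t => (Nat.card G : ℂ) * t) h1
      simp only [mul_one] at h4
      rw [← mul_assoc, mul_inv_cancel₀ h2, one_mul] at h4
      exact h4
    have h5 : ((∑ g : G, ‖(χ : G → ℂ) g‖ ^ 2 : ℝ) : ℂ) = ((Nat.card G : ℝ) : ℂ) := by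
      push_cast
      rw [← h3]
      refine Finset.sum_congr rfl fun g _ => ?_
      rw [Complex.mul_conj, Complex.normSq_eq_norm_sq]
      push_cast
      rfl
    exact_mod_cast h5
  have h1 : (Nat.card G : ℝ) * ∑ i, cn p (u i) (f i) (χ : G → ℂ) =
      ∑ s : ι × G, cn p (u s.1) (f s.1) (χ : G → ℂ) := by
    rw [Fintype.sum_prod_type, Finset.mul_sum]
    refine Finset.sum_congr rfl fun i _ => ?_
    dsimp only
    rw [Finset.sum_const, Finset.card_univ, nsmul_eq_mul, Nat.card_eq_fintype_card]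
  let Y : Finset G := (Finset.univ : Finset (ι × G)).image fun s => s.2 * u s.1 * s.2⁻¹
  have hY : ∀ y ∈ Y, ∃ k : ℕ, orderOf y = p ^ k := by
    intro y hy
    obtain ⟨s, -, rfl⟩ := Finset.mem_image.1 hy
    obtain ⟨k, hk⟩ := hu s.1
    refine ⟨k, ?_⟩
    rw [← hk]
    exact (MulAut.conj s.2).orderOf_eq (u s.1)
  have h2 : ∑ s : ι × G, cn p (u s.1) (f s.1) (χ : G → ℂ) =
      ∑ y ∈ Y, ∑ s : ι × G with s.2 * u s.1 * s.2⁻¹ = y, cn p (u s.1) (f s.1) (χ : G → ℂ) :=
    (Finset.sum_fiberwise_of_maps_to (fun s _ => Finset.mem_image_of_mem _ (Finset.mem_univ s))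
      _).symm
  have h3 : ∑ s : ι × G, cn p (u s.1) (f s.1) (χ : G → ℂ) ≤ (e : ℝ) * Nat.card G := by
    rw [h2, ← hnorm]
    refine (Finset.sum_le_sum fun y _ => sum_at_le hM u f hf hfib y hcls).trans ?_
    rw [← Finset.mul_sum]
    exact mul_le_mul_of_nonneg_left (sum_sections_le (χ : G → ℂ) Y hY) (Nat.cast_nonneg e)
  rw [← h1, mul_comm] at h3
  exact le_of_mul_le_mul_right h3 hG

end Cfsg.Agent.H658
end

-- part: H658/InertialBound
section
/-!
# Heights and the inertial index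

`D` is a defect group of `B`, `H = D C_G(D)`, `b` a block of `H` inducing `B`. The sum of the
contributions of the major subsections `(z, b ^ C_G(z))`, `z ∈ Z(D)`, to the norm of `χ ∈ B` is at
least `|Z(D)| * p ^ (ht χ - d)` and at most the inertial index.
-/

set_option autoImplicit false
set_option linter.unusedSectionVars false

open Cfsg
open scoped ComplexConjugate

namespace Cfsg.Agent.H658

open Cfsg.Agent.Blocks.Local Cfsg.Agent.Characters Cfsg.Agent.Blocks.Blau
open Cfsg.Agent.H613.RegGram Cfsg.Agent.H613.Contrib Cfsg.Agent.H613.ContribVal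
open Cfsg.Agent.H662 (tr trB tr_apply tr_apply_map tr_apply_one tr_mem_trB isPBlock_trB mem_trB
  tr_symm_tr tr_tr_symm trB_symm_trB isInducedBlockIn_iff inducedBlock_unique)

variable {G : Type*} [Group G] [Finite G] {p : ℕ} [Fact p.Prime] {M : Ideal AlgInt}

/-- Contributions of blocks induced by the same block agree. -/
theorem cn_congr (hM : IsPModular p M) {y y' : G} (hy : y = y') {R H H' : Subgroup G}
    (hH : H = H') (hR : R ≤ H) {r : Set (IrrCharacter R)} {f : Set (IrrCharacter H)}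
    {f' : Set (IrrCharacter H')} (h : IsInducedBlockIn M H R r f)
    (h' : IsInducedBlockIn M H' R r f') (χ : G → ℂ) : cn p y f χ = cn p y' f' χ := by
  have := isPrime_of_isPModular hM
  subst hH hy
  have h1 : f = f' := inducedBlock_unique ((isInducedBlockIn_iff hR).1 h)
    ((isInducedBlockIn_iff hR).1 h')
  rw [h1]

/-- The action of an embedding on the scaled contribution. -/
theorem sigma_contr (hM : IsPModular p M) {u : G} {q : ℕ} (hq : q ≠ 0) (hu : u ^ q = 1)
    {H : Subgroup G} (hH : H = Subgroup.centralizer ({u} : Set G))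
    {b : Set (IrrCharacter H)} (hb : IsPBlock M b) (χ : IrrCharacter G)
    (σ : algebraicClosure ℚ ℂ →+* ℂ) (m : ℕ) (hm : m.Coprime q)
    (hσ : ∀ t : algebraicClosure ℚ ℂ, t ^ q = 1 → σ t = (t : ℂ) ^ m) (s : ℚ)
    (x : algebraicClosure ℚ ℂ)
    (hx : (x : ℂ) = (((s : ℝ) * ((p : ℝ) ^ blockDefect p b * cn p u b (χ : G → ℂ)) : ℝ) : ℂ)) :
    σ x = (((s : ℝ) * ((p : ℝ) ^ blockDefect p b * cn p (u ^ m) b (χ : G → ℂ)) : ℝ) : ℂ) := by
  classical
  have := Fintype.ofFinite H
  have := Core.finite_irr (G := H)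
  have := Fintype.ofFinite (IrrCharacter H)
  have : Fintype b := Fintype.ofFinite b
  obtain ⟨n, e, hE⟩ := exists_exp hH (q := q) hu
  have hz : ∀ ξ η : IrrCharacter H, ∃ z : ℤ, ξ ∈ b →
      (p : ℂ) ^ blockDefect p b * rg p (ξ : H → ℂ) (η : H → ℂ) = z := by
    intro ξ η
    by_cases hξ : ξ ∈ b
    · obtain ⟨z, hz⟩ := exists_int_rg hM hξ η
      exact ⟨z, fun _ => hz⟩
    · exact ⟨0, fun h => absurd h hξ⟩
  choose z hz using hz
  have h1 : ∀ k : ℕ, H = Subgroup.centralizer ({u ^ k} : Set G) →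
      (((s : ℝ) * ((p : ℝ) ^ blockDefect p b * cn p (u ^ k) b (χ : G → ℂ)) : ℝ) : ℂ) =
        ∑ i : b × b, ((s * ((n χ i.1 * n χ i.2 * z i.1 i.2 : ℤ) : ℚ) : ℚ) : ℂ) *
          (e i.1 * conj (e i.2)) ^ k := by
    intro k hk
    have h2 := pow_mul_contr_eq hM hE hb (z := z) (fun ξ hξ η => hz ξ η hξ) χ χ hk
    rw [contr_self_eq_cn] at h2
    push_cast
    push_cast at h2
    rw [h2, Finset.mul_sum]
    exact Finset.sum_congr rfl fun i _ => by ring
  have h2 := h1 1 (by rw [pow_one]; exact hH)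
  rw [pow_one] at h2
  have h3 := h1 m (by rw [Blocks.GaloisConj.centralizer_pow_eq hu hm]; exact hH)
  rw [h2] at hx
  rw [h3]
  have h4 := sigma_sum hq (fun i : b × b => (s * ((n χ i.1 * n χ i.2 * z i.1 i.2 : ℤ) : ℚ) : ℚ))
    (fun i : b × b => e i.1 * conj (e i.2))
    (fun i => pow_mul_conj_eq_one (hE.root _) (hE.root _)) σ m hσ 1 x hx
  rw [one_mul] at h4
  exact h4

variable {B : Set (IrrCharacter G)} {D : Subgroup G}

/-- `|Z(D)| ≤ p ^ (d - ht χ) * ∑_{z ∈ Z(D)} m(z)`. -/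
theorem card_center_le (hM : IsPModular p M) (hD : IsDefectGroup p M B D)
    {b : Set (IrrCharacter ↥(D ⊔ Subgroup.centralizer (D : Set G)))}
    (f : ∀ z : Subgroup.center D,
      Set (IrrCharacter (Subgroup.centralizer ({((z : D) : G)} : Set G))))
    (hf1 : ∀ z : Subgroup.center D, IsInducedBlockIn M
      (Subgroup.centralizer ({((z : D) : G)} : Set G))
      (D ⊔ Subgroup.centralizer (D : Set G)) b (f z))
    (hf2 : ∀ z : Subgroup.center D,
      IsInducedBlock M (Subgroup.centralizer ({((z : D) : G)} : Set G)) (f z) B)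
    (hf4 : ∀ z : Subgroup.center D, blockDefect p (f z) = blockDefect p B)
    [Fintype (Subgroup.center D)] {χ : IrrCharacter G} (hχ : χ ∈ B) :
    (Nat.card (Subgroup.center D) : ℝ) ≤
      (p : ℝ) ^ (blockDefect p B - blockHeight p B (χ : G → ℂ)) *
        ∑ z : Subgroup.center D, cn p ((z : D) : G) (f z) (χ : G → ℂ) := by
  classical
  have hpp : p.Prime := Fact.out
  have hDp : IsPGroup p D := Blocks.Basic.isPGroup_of_isDefectGroup hD
  obtain ⟨q, hqdef⟩ : ∃ q : ℕ, q = Nat.card D := ⟨_, rfl⟩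
  have hq0 : q ≠ 0 := by rw [hqdef]; exact Nat.card_pos.ne'
  have hzq : ∀ z : D, (z : G) ^ q = 1 := by
    intro z
    rw [hqdef]
    have h1 : z ^ Nat.card D = 1 := pow_card_eq_one'
    have h2 := congrArg (Subtype.val) h1
    rw [Subgroup.coe_pow, Subgroup.coe_one] at h2
    exact h2
  have hzp : ∀ z : D, ∃ k : ℕ, orderOf (z : G) = p ^ k := by
    intro z
    rw [Subgroup.orderOf_coe]
    exact IsPGroup.iff_orderOf.1 hDp z
  have hzc : ∀ z : Subgroup.center D, ∀ w ∈ D, ((z : D) : G) * w = w * ((z : D) : G) := by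
    intro z w hw
    have h1 := Subgroup.mem_center_iff.1 z.2 ⟨w, hw⟩
    exact (congrArg Subtype.val h1).symm
  have := Fintype.ofFinite G
  have hadd := H648.HeightForm.defect_add (p := p) B hχ
  have hle : blockHeight p B (χ : G → ℂ) ≤ blockDefect p B := by
    have h2 : (charDegree (χ : G → ℂ)).factorization p ≤ (Nat.card G).factorization p :=
      (Nat.factorization_le_iff_dvd (Blocks.Basic.charDegree_pos χ.2).ne' Nat.card_pos.ne').2
        (S0914.degree_spec χ).2.2 p
    omega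
  obtain ⟨k, hk⟩ : ∃ k, k = blockDefect p B - blockHeight p B (χ : G → ℂ) := ⟨_, rfl⟩
  have hkh : k + blockHeight p B (χ : G → ℂ) = blockDefect p B := by omega
  rw [← hk]
  -- integrality and positivity
  have hint : ∀ z : Subgroup.center D,
      IsIntegral ℤ (((p : ℝ) ^ k * cn p ((z : D) : G) (f z) (χ : G → ℂ) : ℝ) : ℂ) ∧
      0 < (p : ℝ) ^ k * cn p ((z : D) : G) (f z) (χ : G → ℂ) := by
    intro z
    have := Fintype.ofFinite (Subgroup.centralizer ({((z : D) : G)} : Set G))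
    have := Core.finite_irr (G := Subgroup.centralizer ({((z : D) : G)} : Set G))
    have : Fintype (f z) := Fintype.ofFinite (f z)
    have h1 := isIntegral_pow_sub_mul_contr hM (hzp z) rfl (hf2 z) (hf4 z) hχ χ
    have h2 := contr_self_ne_zero hM (hzp z) rfl (hf2 z) (hf4 z) hχ
    rw [contr_self_eq_cn] at h1 h2
    rw [← hk] at h1
    constructor
    · push_cast
      exact h1
    · refine mul_pos (pow_pos (by exact_mod_cast hpp.pos) _)
        (lt_of_le_of_ne (cn_nonneg _ _ _ _) fun h => h2 ?_)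
      rw [← h]
      norm_num
  rw [Finset.mul_sum, Nat.card_eq_fintype_card]
  refine card_le_sum (fun z : Subgroup.center D =>
    (p : ℝ) ^ k * cn p ((z : D) : G) (f z) (χ : G → ℂ)) (fun z => (hint z).2)
    (fun z => (hint z).1) hq0 ?_
  intro σ m hm hσ
  have hcop : (Nat.card (Subgroup.center D)).Coprime m := by
    refine Nat.Coprime.coprime_dvd_left ?_ hm.symm
    rw [hqdef]
    exact Subgroup.card_subgroup_dvd_card _
  refine ⟨powCoprime hcop, fun z x hx => ?_⟩
  have hph : ((p : ℝ) ^ blockHeight p B (χ : G → ℂ)) ≠ 0 :=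
    pow_ne_zero _ (by exact_mod_cast hpp.ne_zero)
  have hs : ∀ t : ℝ, (p : ℝ) ^ k * t = (((1 / (p : ℚ) ^ blockHeight p B (χ : G → ℂ) : ℚ)) : ℝ) *
      ((p : ℝ) ^ blockDefect p (f z) * t) := by
    intro t
    rw [hf4, ← hkh, pow_add]
    push_cast
    field_simp
  rw [hs] at hx
  have h1 := sigma_contr hM hq0 (hzq z) rfl (hf1 z).2.1 χ σ m hm hσ _ x hx
  rw [h1, ← hs]
  congr 2
  -- the subsection of the power
  have h2 : (((powCoprime hcop z : Subgroup.center D) : D) : G) = ((z : D) : G) ^ m := by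
    rw [powCoprime_apply]
    push_cast
    rfl
  refine cn_congr hM h2.symm ?_ (root_le_centralizer (z : D).2 (hzc z)) (hf1 z)
    (hf1 (powCoprime hcop z)) (χ : G → ℂ)
  rw [h2, Blocks.GaloisConj.centralizer_pow_eq (hzq z) hm]

/-- The stabilizer orbits. -/
theorem card_orbit_le {H T : Subgroup G} {z₀ : G} (hHz : ∀ h ∈ H, h * z₀ = z₀ * h) {J : Type*}
    (u : J → G) (hu : Function.Injective u) (hJ : ∀ j, ∃ t ∈ T, t * u j * t⁻¹ = z₀) :
    Nat.card J ≤ H.relIndex T := by
  classical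
  choose t ht htj using hJ
  have h1 : H.relIndex T = Nat.card (T ⧸ H.subgroupOf T) := rfl
  rw [h1]
  refine Nat.card_le_card_of_injective
    (fun j => ((⟨(t j)⁻¹, T.inv_mem (ht j)⟩ : T) : T ⧸ H.subgroupOf T)) ?_
  intro j j' hjj
  dsimp only at hjj
  rw [QuotientGroup.eq, Subgroup.mem_subgroupOf] at hjj
  have h2 : t j * (t j')⁻¹ ∈ H := by
    have h3 : ((⟨(t j)⁻¹, T.inv_mem (ht j)⟩ : T)⁻¹ * (⟨(t j')⁻¹, T.inv_mem (ht j')⟩ : T) : G) =
        t j * (t j')⁻¹ := by
      push_cast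
      group
    rw [← h3]
    exact hjj
  have h4 := hHz _ h2
  apply hu
  calc u j = (t j)⁻¹ * (t j * u j * (t j)⁻¹) * t j := by group
    _ = (t j)⁻¹ * z₀ * t j := by rw [htj]
    _ = (t j')⁻¹ * ((t j * (t j')⁻¹)⁻¹ * (z₀ * (t j * (t j')⁻¹))) * t j' := by group
    _ = (t j')⁻¹ * ((t j * (t j')⁻¹)⁻¹ * ((t j * (t j')⁻¹) * z₀)) * t j' := by rw [h4]
    _ = (t j')⁻¹ * z₀ * t j' := by group
    _ = (t j')⁻¹ * (t j' * u j' * (t j')⁻¹) * t j' := by rw [htj]
    _ = u j' := by group

/-- The sum of the contributions of the major subsections attached to `Z(D)` is at most the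
inertial index. -/
theorem sum_center_le (hM : IsPModular p M) (hD : IsDefectGroup p M B D)
    {b : Set (IrrCharacter ↥(D ⊔ Subgroup.centralizer (D : Set G)))}
    (f : ∀ z : Subgroup.center D,
      Set (IrrCharacter (Subgroup.centralizer ({((z : D) : G)} : Set G))))
    (hf1 : ∀ z : Subgroup.center D, IsInducedBlockIn M
      (Subgroup.centralizer ({((z : D) : G)} : Set G))
      (D ⊔ Subgroup.centralizer (D : Set G)) b (f z))
    (hf3 : ∀ z : Subgroup.center D, IsDefectGroup p M (f z)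
      (D.subgroupOf (Subgroup.centralizer ({((z : D) : G)} : Set G))))
    [Fintype (Subgroup.center D)] (χ : IrrCharacter G) {T : Subgroup G}
    (hT : ∀ g : G, g ∈ T ↔ (g ∈ Subgroup.normalizer (D : Set G) ∧ ∀ θ ∈ b,
      ∀ θ' : IrrCharacter ↥(D ⊔ Subgroup.centralizer (D : Set G)),
        (∀ h h' : ↥(D ⊔ Subgroup.centralizer (D : Set G)), (h' : G) = g * h * g⁻¹ →
          (θ' : ↥(D ⊔ Subgroup.centralizer (D : Set G)) → ℂ) h' =
            (θ : ↥(D ⊔ Subgroup.centralizer (D : Set G)) → ℂ) h) → θ' ∈ b)) :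
    ∑ z : Subgroup.center D, cn p ((z : D) : G) (f z) (χ : G → ℂ) ≤
      ((D ⊔ Subgroup.centralizer (D : Set G)).relIndex T : ℕ) := by
  classical
  have hDp : IsPGroup p D := Blocks.Basic.isPGroup_of_isDefectGroup hD
  have hzc : ∀ z : Subgroup.center D, ∀ w ∈ D, ((z : D) : G) * w = w * ((z : D) : G) := by
    intro z w hw
    have h1 := Subgroup.mem_center_iff.1 z.2 ⟨w, hw⟩
    exact (congrArg Subtype.val h1).symm
  refine sum_major_le hM (fun z : Subgroup.center D => ((z : D) : G)) ?_ f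
    (fun z => (hf1 z).2.1) ?_ χ
  · intro z
    rw [Subgroup.orderOf_coe]
    exact IsPGroup.iff_orderOf.1 hDp z
  · intro i
    refine card_orbit_le (z₀ := ((i : D) : G)) ?_ (fun j => ((j.1 : D) : G)) ?_ ?_
    · intro h hh
      exact Subgroup.mem_centralizer_singleton_iff.1
        (root_le_centralizer (i : D).2 (hzc i) hh)
    · intro j j' hjj
      exact Subtype.ext (Subtype.ext (Subtype.ext hjj))
    · rintro ⟨j, x, ε, hε, hx, hεf⟩
      obtain ⟨t, ht, htN, htb⟩ := fuse hM rfl rfl rfl (i : D).2 (hzc i) (hf1 j) (hf3 j)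
        (le_centralizer_of_mem_center (hzc j)) (hf1 i) (hf3 i) x hx hε hεf
      exact ⟨t, (hT t).2 ⟨htN, htb⟩, ht⟩

end Cfsg.Agent.H658
end
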