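import Cfsg.Agent.Characters.Brauer
import Mathlib
set_option linter.all false

/-!
# The `p`-regular part as a power, and the generalized character `g ↦ χ (g_{p'})`

* `RegExp p G n r`: `|G| = p ^ a * r`, `p ∤ r`, `a ≤ n`, `p ^ n ≡ 1 mod r`, so `g ^ p ^ n` is the
  `p`-regular part of `g`;
* `isGeneralizedCharacter_pow`: `g ↦ χ (g ^ p ^ n)` is a generalized character.
-/

set_option autoImplicit false
set_option linter.unusedSectionVars false

open Cfsg

namespace Cfsg.Agent.H658.RegPow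

open Cfsg.Agent.Characters Cfsg.Agent.Characters.Brauer

/-- `g ^ p ^ n` is the `p`-regular part of `g`. -/
structure RegExp (p : ℕ) (G : Type*) [Group G] (n r : ℕ) : Prop where
  ndvd : ¬ p ∣ r
  card : ∃ a ≤ n, Nat.card G = p ^ a * r
  modEq : p ^ n ≡ 1 [MOD r]

theorem exists_regExp (p : ℕ) [Fact p.Prime] (G : Type*) [Group G] [Finite G] (m : ℕ) :
    ∃ n r : ℕ, m ≤ n ∧ RegExp p G n r := by
  have hp : p.Prime := Fact.out
  have hc : Nat.card G ≠ 0 := Nat.card_pos.ne'
  obtain ⟨a, r, hr, h⟩ := Nat.exists_eq_pow_mul_and_not_dvd hc p hp.ne_one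
  have hr0 : 0 < r := Nat.pos_of_ne_zero (fun h0 => hr (h0 ▸ dvd_zero p))
  have hφ : 0 < Nat.totient r := Nat.totient_pos.2 hr0
  refine ⟨Nat.totient r * (a + m), r, ?_, hr, ⟨a, ?_, h⟩, ?_⟩
  · exact le_trans (Nat.le_add_left m a) (Nat.le_mul_of_pos_left _ hφ)
  · exact le_trans (Nat.le_add_right a m) (Nat.le_mul_of_pos_left _ hφ)
  · rw [pow_mul]
    have h1 : p ^ Nat.totient r ≡ 1 [MOD r] :=
      Nat.ModEq.pow_totient ((Nat.Prime.coprime_iff_not_dvd hp).2 hr)
    simpa using h1.pow (a + m)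

variable {G : Type*} [Group G] [Finite G] {p : ℕ} [Fact p.Prime] {n r : ℕ}

omit [Finite G] [Fact p.Prime] in
theorem RegExp.card_dvd (h : RegExp p G n r) : Nat.card G ∣ p ^ n * r := by
  obtain ⟨a, ha, hc⟩ := h.card
  rw [hc]
  exact Nat.mul_dvd_mul_right (pow_dvd_pow p ha) r

omit [Fact p.Prime] in
theorem RegExp.pow_eq_one (h : RegExp p G n r) (g : G) : g ^ (p ^ n * r) = 1 :=
  orderOf_dvd_iff_pow_eq_one.1 ((orderOf_dvd_natCard g).trans h.card_dvd)

theorem RegExp.pow_of_not_dvd (h : RegExp p G n r) {g : G} (hg : ¬ p ∣ orderOf g) :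
    g ^ p ^ n = g := by
  have hp : p.Prime := Fact.out
  have h1 : orderOf g ∣ r := by
    have h2 : orderOf g ∣ p ^ n * r := orderOf_dvd_of_pow_eq_one (h.pow_eq_one g)
    exact Nat.Coprime.dvd_of_dvd_mul_left (Nat.Coprime.pow_right n
      (((Nat.Prime.coprime_iff_not_dvd hp).2 hg).symm)) h2
  have h3 : p ^ n ≡ 1 [MOD orderOf g] := h.modEq.of_dvd h1
  have h4 := (pow_eq_pow_iff_modEq (x := g)).2 h3
  rwa [pow_one] at h4

omit [Fact p.Prime] in
theorem RegExp.not_dvd_orderOf (h : RegExp p G n r) (g : G) : ¬ p ∣ orderOf (g ^ p ^ n) := by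
  intro hd
  apply h.ndvd
  exact hd.trans (orderOf_dvd_of_pow_eq_one (by rw [← pow_mul, h.pow_eq_one]))

/-- The `p`-elements commuting with `g` do not change the `p`-regular part. -/
theorem RegExp.mul_pow_eq (h : RegExp p G n r) {g z : G} (hc : Commute g z)
    (hz : ∃ k : ℕ, orderOf z = p ^ k) : (g * z) ^ p ^ n = g ^ p ^ n := by
  have hp : p.Prime := Fact.out
  rw [hc.mul_pow]
  have h1 : z ^ p ^ n = 1 := by
    apply orderOf_dvd_iff_pow_eq_one.1
    obtain ⟨k, hk⟩ := hz
    have h2 : orderOf z ∣ p ^ n * r := orderOf_dvd_of_pow_eq_one (h.pow_eq_one z)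
    refine Nat.Coprime.dvd_of_dvd_mul_right ?_ h2
    rw [hk]
    exact Nat.Coprime.pow_left _ ((Nat.Prime.coprime_iff_not_dvd hp).2 h.ndvd)
  rw [h1, mul_one]

theorem mul_pow_of_index {E : Type*} [Group E] [Finite E] {c : ℕ}
    (hc : (Subgroup.center E).index ∣ c) (a b : E) :
    (a * b) ^ c = a ^ c * b ^ c ∧ a ^ c ∈ Subgroup.center E := by
  obtain ⟨t, rfl⟩ := hc
  have h1 : ∀ x : E, x ^ (Subgroup.center E).index ∈ Subgroup.center E := fun x =>
    Subgroup.pow_index_mem _ x
  have h2 : (a * b) ^ (Subgroup.center E).index =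
      a ^ (Subgroup.center E).index * b ^ (Subgroup.center E).index := by
    rw [← MonoidHom.transferCenterPow_apply, ← MonoidHom.transferCenterPow_apply,
      ← MonoidHom.transferCenterPow_apply, map_mul]
    rfl
  constructor
  · rw [pow_mul, h2, Commute.mul_pow, ← pow_mul, ← pow_mul]
    exact (Subgroup.mem_center_iff.1 (h1 a) _).symm
  · rw [pow_mul]
    exact Subgroup.pow_mem _ (h1 a) t

/-- `g ↦ χ (g ^ p ^ n)` is a generalized character. -/
theorem isGeneralizedCharacter_pow (h : RegExp p G n r) {χ : G → ℂ} (hχ : IsCharacter G χ) :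
    IsGeneralizedCharacter G (fun g => χ (g ^ p ^ n)) := by
  have hp : p.Prime := Fact.out
  refine brauer_characterization _ ?_ ?_
  · intro g x
    have h1 : (x * g * x⁻¹) ^ p ^ n = x * g ^ p ^ n * x⁻¹ := conj_pow
    change χ ((x * g * x⁻¹) ^ p ^ n) = χ (g ^ p ^ n)
    rw [h1, Core.isCharacter_isClassFunction hχ]
  · intro E l hl hE
    obtain ⟨x, hx, hxl, k, hk⟩ := hE
    -- the index of the centre
    have hle : Subgroup.zpowers x ≤ Subgroup.center E := by
      rwa [Subgroup.zpowers_le]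
    have hidx : (Subgroup.center E).index ∣ l ^ k := by
      rw [← hk]
      exact Subgroup.index_dvd_of_le hle
    obtain ⟨j, -, hj⟩ := (Nat.dvd_prime_pow hl).1 hidx
    have hjG : l ^ j ∣ Nat.card G := by
      rw [← hj]
      exact ((Subgroup.center E).index_dvd_card).trans (Subgroup.card_subgroup_dvd_card E)
    obtain ⟨a, ha, hc⟩ := h.card
    have hmul : ∀ a b : E, (a * b) ^ p ^ n = a ^ p ^ n * b ^ p ^ n := by
      by_cases hlp : l = p
      · intro a' b'
        have h1 : (Subgroup.center E).index ∣ p ^ n := by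
          rw [hj, hlp]
          apply pow_dvd_pow
          rw [hc, hlp] at hjG
          have h2 : p ^ j ∣ p ^ a := Nat.Coprime.dvd_of_dvd_mul_right
            (Nat.Coprime.pow_left _ ((Nat.Prime.coprime_iff_not_dvd hp).2 h.ndvd)) hjG
          exact ((Nat.pow_dvd_pow_iff_le_right hp.one_lt).1 h2).trans ha
        exact (mul_pow_of_index h1 a' b').1
      · intro a' b'
        have h1 : (Subgroup.center E).index ∣ p ^ n - 1 := by
          rw [hj]
          rw [hc] at hjG
          have h2 : l ^ j ∣ r := Nat.Coprime.dvd_of_dvd_mul_left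
            (Nat.Coprime.pow _ _ ((Nat.coprime_primes hl hp).2 hlp)) hjG
          exact h2.trans ((Nat.modEq_iff_dvd' (pow_pos hp.pos n)).1 h.modEq.symm)
        obtain ⟨h2, h3⟩ := mul_pow_of_index h1 a' b'
        have h4 : p ^ n = p ^ n - 1 + 1 := (Nat.succ_pred_eq_of_pos (pow_pos hp.pos n)).symm
        rw [h4, pow_succ, pow_succ, pow_succ, h2]
        have h5 := (mul_pow_of_index h1 b' a').2
        have h6 : b' ^ (p ^ n - 1) * a' = a' * b' ^ (p ^ n - 1) :=
          (Subgroup.mem_center_iff.1 h5 a').symm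
        calc a' ^ (p ^ n - 1) * b' ^ (p ^ n - 1) * (a' * b')
            = a' ^ (p ^ n - 1) * (b' ^ (p ^ n - 1) * a') * b' := by group
          _ = a' ^ (p ^ n - 1) * a' * (b' ^ (p ^ n - 1) * b') := by rw [h6]; group
    let π : E →* E := { toFun := fun e => e ^ p ^ n, map_one' := one_pow _, map_mul' := hmul }
    have h7 : (fun e : E => (fun g : G => χ (g ^ p ^ n)) (e : G)) = χ ∘ (E.subtype.comp π) := by
      funext e
      rfl
    rw [h7]
    exact isGeneralizedCharacter_of_isCharacter (Core.isCharacter_comp _ hχ)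

end Cfsg.Agent.H658.RegPow
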