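import Cfsg.Agent.H658.HeightZeroSq
import Cfsg.Agent.H658.MajorVal
import Cfsg.Agent.Blocks.GaloisConj
import Cfsg.Agent.H658.Domin
set_option linter.all false

-- part: H658/CountLe
section
/-!
# Counting nonzero algebraic integers by a sum of squares

`count_le`: a family of integer combinations of `k`-th powers of `q`-th roots of unity such that for
all `k` prime to `q` at least `r` members are nonzero and the sum of the squares of the absolute
values is at most `N`: then `r ≤ N`.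
-/

set_option autoImplicit false

open scoped ComplexConjugate

namespace Cfsg.Agent.H658

theorem count_le {α J : Type*} [Fintype α] [Fintype J] {q : ℕ} (hq : q ≠ 0) (ω : J → ℂ)
    (hω : ∀ j, ω j ^ q = 1) (c : α → J → ℤ) (N : ℝ) (r : ℕ)
    (hN : ∀ k : ℕ, k.Coprime q → ∑ a, ‖∑ j, (c a j : ℂ) * ω j ^ k‖ ^ 2 ≤ N)
    (hr : ∀ k : ℕ, k.Coprime q → r ≤ Nat.card {a // ∑ j, (c a j : ℂ) * ω j ^ k ≠ 0}) :
    (r : ℝ) ≤ N := by
  classical
  have : NeZero q := ⟨hq⟩
  let x : α → ℕ → ℂ := fun a k => ∑ j, (c a j : ℂ) * ω j ^ k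
  have hxQ : ∀ a k, x a k = ∑ j, ((c a j : ℚ) : ℂ) * ω j ^ k := by
    intro a k
    refine Finset.sum_congr rfl fun j _ => ?_
    push_cast
    rfl
  have hco : ∀ κ : (ZMod q)ˣ, ((κ : ZMod q).val).Coprime q := fun κ => ZMod.val_coe_unit_coprime κ
  have hxint : ∀ a k, IsIntegral ℤ (x a k) := by
    intro a k
    refine IsIntegral.sum _ fun j _ => IsIntegral.mul ?_ (IsIntegral.pow ?_ k)
    · exact isIntegral_algebraMap (R := ℤ) (x := c a j)
    · exact isIntegral_of_pow_eq_one hq (hω j)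
  have hsq : ∀ a k, ((‖x a k‖ ^ 2 : ℝ) : ℂ) = x a k * conj (x a k) := by
    intro a k
    rw [Complex.mul_conj, Complex.normSq_eq_norm_sq]
  have hint : ∀ a k, IsIntegral ℤ ((‖x a k‖ ^ 2 : ℝ) : ℂ) := by
    intro a k
    rw [hsq]
    exact (hxint a k).mul (isIntegral_conj (hxint a k))
  -- the action of the embeddings
  have hact : ∀ (σ : algebraicClosure ℚ ℂ →+* ℂ) (m : ℕ) (hm : m.Coprime q),
      (∀ t : algebraicClosure ℚ ℂ, t ^ q = 1 → σ t = (t : ℂ) ^ m) → ∀ (a : α) (κ : (ZMod q)ˣ)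
      (y : algebraicClosure ℚ ℂ), (y : ℂ) = ((‖x a ((κ : ZMod q).val)‖ ^ 2 : ℝ) : ℂ) →
      σ y = ((‖x a ((((κ * ZMod.unitOfCoprime m hm : (ZMod q)ˣ)) : ZMod q).val)‖ ^ 2 : ℝ) : ℂ) := by
    intro σ m hm hσm a κ y hy
    have h1 : (y : ℂ) = ∑ i : J × J, (((c a i.1 : ℚ) * (c a i.2 : ℚ) : ℚ) : ℂ) *
        (ω i.1 * conj (ω i.2)) ^ ((κ : ZMod q).val) := by
      rw [hy, hxQ, ← normSq_sum (fun j => (c a j : ℚ)) ω]
    have h2 := sigma_sum hq _ _ (fun i : J × J =>
      pow_mul_conj_eq_one (hω i.1) (hω i.2)) σ m hσm _ y h1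
    rw [h2, ← normSq_sum (fun j => (c a j : ℚ)) ω]
    have h3 : ∑ j, ((c a j : ℚ) : ℂ) * ω j ^ ((κ : ZMod q).val * m) =
        x a ((((κ * ZMod.unitOfCoprime m hm : (ZMod q)ˣ)) : ZMod q).val) := by
      rw [hxQ]
      refine Finset.sum_congr rfl fun i _ => ?_
      congr 1
      have h4 : ((κ : ZMod q).val * m) % q =
          ((((κ * ZMod.unitOfCoprime m hm : (ZMod q)ˣ)) : ZMod q).val) % q := by
        rw [Units.val_mul, ZMod.val_mul, Nat.mod_mod]
        have h5 : ((ZMod.unitOfCoprime m hm : (ZMod q)ˣ) : ZMod q).val = m % q := by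
          rw [ZMod.coe_unitOfCoprime, ZMod.val_natCast]
        rw [h5, Nat.mul_mod_mod]
      rw [pow_eq_pow_mod _ (hω i), h4, ← pow_eq_pow_mod _ (hω i)]
    rw [h3]
  let S := {i : α × (ZMod q)ˣ // x i.1 ((i.2 : ZMod q).val) ≠ 0}
  have hmain := card_le_sum (fun i : S => ‖x i.1.1 ((i.1.2 : ZMod q).val)‖ ^ 2)
    (fun i => pow_pos (norm_pos_iff.2 i.2) 2) (fun i => hint _ _) hq (by
      intro σ m hm hσm
      have hiff : ∀ i : α × (ZMod q)ˣ, x i.1 ((i.2 : ZMod q).val) ≠ 0 ↔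
          x i.1 ((((i.2 * ZMod.unitOfCoprime m hm : (ZMod q)ˣ)) : ZMod q).val) ≠ 0 := by
        rintro ⟨a, κ⟩
        dsimp only
        have hmem : ((‖x a ((κ : ZMod q).val)‖ ^ 2 : ℝ) : ℂ) ∈ algebraicClosure ℚ ℂ :=
          mem_algebraicClosure_iff'.2 (hint a _).tower_top
        have h1 := hact σ m hm hσm a κ ⟨_, hmem⟩ rfl
        rw [not_iff_not]
        constructor
        · intro h0
          have h2 : (⟨_, hmem⟩ : algebraicClosure ℚ ℂ) = 0 := by
            apply Subtype.ext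
            change ((‖x a ((κ : ZMod q).val)‖ ^ 2 : ℝ) : ℂ) = 0
            rw [h0, norm_zero]
            norm_num
          rw [h2, map_zero] at h1
          have h3 : ‖x a ((((κ * ZMod.unitOfCoprime m hm : (ZMod q)ˣ)) : ZMod q).val)‖ ^ 2 = 0 := by
            exact_mod_cast h1.symm
          rwa [pow_eq_zero_iff two_ne_zero, norm_eq_zero] at h3
        · intro h0
          rw [h0, norm_zero] at h1
          have h2 : σ (⟨_, hmem⟩ : algebraicClosure ℚ ℂ) = 0 := by rw [h1]; norm_num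
          rw [map_eq_zero] at h2
          have h3 : ((‖x a ((κ : ZMod q).val)‖ ^ 2 : ℝ) : ℂ) = 0 := congrArg Subtype.val h2
          have h4 : ‖x a ((κ : ZMod q).val)‖ ^ 2 = 0 := by exact_mod_cast h3
          rwa [pow_eq_zero_iff two_ne_zero, norm_eq_zero] at h4
      refine ⟨Equiv.subtypeEquiv (Equiv.prodCongr (Equiv.refl α)
        (Equiv.mulRight (ZMod.unitOfCoprime m hm))) hiff, ?_⟩
      rintro ⟨⟨a, κ⟩, h0⟩ y hy
      exact hact σ m hm hσm a κ y hy)
  -- the sum
  have hsum : ∑ i : S, ‖x i.1.1 ((i.1.2 : ZMod q).val)‖ ^ 2 ≤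
      (Fintype.card (ZMod q)ˣ : ℝ) * N := by
    have h1 : ∑ i : S, ‖x i.1.1 ((i.1.2 : ZMod q).val)‖ ^ 2 ≤
        ∑ i : α × (ZMod q)ˣ, ‖x i.1 ((i.2 : ZMod q).val)‖ ^ 2 := by
      rw [← Finset.sum_subtype (Finset.univ.filter
        fun i : α × (ZMod q)ˣ => x i.1 ((i.2 : ZMod q).val) ≠ 0)
        (p := fun i => x i.1 ((i.2 : ZMod q).val) ≠ 0) (by simp)
        (fun i => ‖x i.1 ((i.2 : ZMod q).val)‖ ^ 2)]
      exact Finset.sum_le_univ_sum_of_nonneg fun i => by positivity
    refine h1.trans ?_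
    rw [Fintype.sum_prod_type, Finset.sum_comm]
    refine (Finset.sum_le_sum fun κ _ => hN _ (hco κ)).trans ?_
    rw [Finset.sum_const, Finset.card_univ, nsmul_eq_mul]
  have hcard : (Fintype.card (ZMod q)ˣ : ℝ) * r ≤ (Fintype.card S : ℝ) := by
    have h1 : Fintype.card S = ∑ κ : (ZMod q)ˣ, Nat.card {a // x a ((κ : ZMod q).val) ≠ 0} := by
      let e : S ≃ (κ : (ZMod q)ˣ) × {a // x a ((κ : ZMod q).val) ≠ 0} :=
        { toFun := fun i => ⟨i.1.2, i.1.1, i.2⟩
          invFun := fun i => ⟨(i.2.1, i.1), i.2.2⟩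
          left_inv := fun i => rfl
          right_inv := fun i => rfl }
      rw [Fintype.card_congr e, Fintype.card_sigma]
      exact Finset.sum_congr rfl fun κ _ => (Nat.card_eq_fintype_card).symm
    rw [h1]
    push_cast
    have h2 : ∑ κ : (ZMod q)ˣ, (r : ℝ) ≤
        ∑ κ : (ZMod q)ˣ, (Nat.card {a // x a ((κ : ZMod q).val) ≠ 0} : ℝ) :=
      Finset.sum_le_sum fun κ _ => by exact_mod_cast hr _ (hco κ)
    rwa [Finset.sum_const, Finset.card_univ, nsmul_eq_mul] at h2
  have hpos : (0 : ℝ) < Fintype.card (ZMod q)ˣ := by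
    exact_mod_cast Fintype.card_pos
  exact le_of_mul_le_mul_left ((hcard.trans hmain).trans hsum) hpos

end Cfsg.Agent.H658
end

-- part: H658/QuadForm
section
/-!
# The quadratic form bound for the number of characters of a block

`(u, b)` is a major subsection of `B`, `F i` (`i : Fin e`) combinations of members of `b`, "dual" to
functions `φ i` on the `p`-regular elements, with integral products with the members of `b` and
`rg (F i) (F j) = w * (δ_ij + m)`. Then `k(B) ≤ w * (m + e)`.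
-/

set_option autoImplicit false
set_option linter.unusedSectionVars false

open Cfsg
open scoped ComplexConjugate

namespace Cfsg.Agent.H658

open Cfsg.Agent.Blocks.Local Cfsg.Agent.Characters Cfsg.Agent.Blocks.Blau
open Cfsg.Agent.H613.RegGram Cfsg.Agent.H613.Contrib Cfsg.Agent.H613.ContribVal

section bilinear

variable {K : Type*} [Group K] [Fintype K]

theorem rg_congr_left (p : ℕ) {f f' : K → ℂ} (g : K → ℂ) (h : ∀ c, ¬ p ∣ orderOf c → f c = f' c) :
    rg p f g = rg p f' g := by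
  classical
  rw [rg_def, rg_def, pair_eq_sum_filter, pair_eq_sum_filter]
  congr 1
  refine Finset.sum_congr rfl fun c hc => ?_
  rw [h c (Finset.mem_filter.1 hc).2]

theorem rg_congr_right (p : ℕ) (f : K → ℂ) {g g' : K → ℂ} (h : ∀ c, ¬ p ∣ orderOf c → g c = g' c) :
    rg p f g = rg p f g' := by
  rw [← conj_rg, rg_congr_left p f h, conj_rg]

theorem rg_comb_right (p : ℕ) (f : K → ℂ) {ι : Type*} (s : Finset ι) (a : ι → ℂ) (g : ι → K → ℂ) :
    rg p f (∑ i ∈ s, a i • g i) = ∑ i ∈ s, conj (a i) * rg p f (g i) := by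
  rw [← conj_rg, rg_sum_smul_left, map_sum]
  refine Finset.sum_congr rfl fun i _ => ?_
  rw [map_mul, conj_rg]

end bilinear

section steps

/-- The sequence `x` shifted by one and extended by zeros. -/
def ext0 {A : Type*} [Zero A] {e : ℕ} (x : Fin e → A) (i : ℕ) : A :=
  if h : 0 < i ∧ i ≤ e then x ⟨i - 1, by omega⟩ else 0

theorem ext0_zero {A : Type*} [Zero A] {e : ℕ} (x : Fin e → A) : ext0 x 0 = 0 := by
  unfold ext0
  rw [dif_neg (by omega)]

theorem ext0_last {A : Type*} [Zero A] {e : ℕ} (x : Fin e → A) : ext0 x (e + 1) = 0 := by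
  unfold ext0
  rw [dif_neg (by omega)]

theorem ext0_succ {A : Type*} [Zero A] {e : ℕ} (x : Fin e → A) (i : Fin e) :
    ext0 x (i + 1) = x i := by
  unfold ext0
  rw [dif_pos ⟨by omega, by omega⟩]
  congr 1

theorem ext0_sum {ι : Type*} (s : Finset ι) {e : ℕ} (c : ι → Fin e → ℤ) (y : ι → ℂ) (k : ℕ) :
    ext0 (fun i => ∑ j ∈ s, (c j i : ℂ) * y j) k = ∑ j ∈ s, ((ext0 (c j) k : ℤ) : ℂ) * y j := by
  unfold ext0
  split_ifs
  · rfl
  · simp

/-- A nonzero closed path has at least two nonzero steps. -/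
theorem two_le_card_steps {e : ℕ} (x : Fin e → ℂ) (hx : ∃ i, x i ≠ 0) :
    2 ≤ Nat.card {i : Fin (e + 1) // ext0 x (i + 1) - ext0 x i ≠ 0} := by
  classical
  by_contra hlt
  have hcard : Nat.card {i : Fin (e + 1) // ext0 x (i + 1) - ext0 x i ≠ 0} ≤ 1 := by omega
  rw [Nat.card_eq_fintype_card, Fintype.card_le_one_iff] at hcard
  -- the sum of the steps is zero
  have hsum : ∑ i : Fin (e + 1), (ext0 x (i + 1) - ext0 x i) = 0 := by
    rw [Fin.sum_univ_eq_sum_range (fun i => ext0 x (i + 1) - ext0 x i) (e + 1),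
      Finset.sum_range_sub, ext0_zero, ext0_last, sub_zero]
  -- all steps are zero
  have hall : ∀ i : Fin (e + 1), ext0 x (i + 1) - ext0 x i = 0 := by
    intro i
    by_contra hi
    rw [Finset.sum_eq_single i] at hsum
    · exact hi hsum
    · intro j _ hj
      by_contra hj0
      exact hj (congrArg Subtype.val (hcard ⟨j, hj0⟩ ⟨i, hi⟩))
    · intro h
      exact absurd (Finset.mem_univ _) h
  have hzero : ∀ i : ℕ, i ≤ e + 1 → ext0 x i = 0 := by
    intro i
    induction i with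
    | zero => intro _; exact ext0_zero x
    | succ i ih =>
      intro hi
      have h1 := hall ⟨i, by omega⟩
      have h2 := ih (by omega)
      simp only at h1
      rw [h2, sub_zero] at h1
      exact h1
  obtain ⟨i, hi⟩ := hx
  apply hi
  rw [← ext0_succ x i]
  exact hzero _ (by omega)

/-- The sum of the squares of the steps. -/
theorem sum_steps_sq {e : ℕ} (he : 0 < e) {B : Type*} [Fintype B] (x : B → Fin e → ℂ) (w m : ℝ)
    (h : ∀ i j, ∑ χ, x χ i * conj (x χ j) = ((w * ((if i = j then 1 else 0) + m) : ℝ) : ℂ)) :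
    ∑ χ, ∑ i : Fin (e + 1), ‖ext0 (x χ) (i + 1) - ext0 (x χ) i‖ ^ 2 = 2 * (w * (m + e)) := by
  obtain ⟨e, rfl⟩ : ∃ e', e = e' + 1 := ⟨e - 1, by omega⟩
  have hn : ∀ i, ∑ χ, ‖x χ i‖ ^ 2 = w * (1 + m) := by
    intro i
    have h1 := h i i
    rw [if_pos rfl] at h1
    have h2 : ((∑ χ, ‖x χ i‖ ^ 2 : ℝ) : ℂ) = ((w * (1 + m) : ℝ) : ℂ) := by
      rw [← h1]
      push_cast
      refine Finset.sum_congr rfl fun χ _ => ?_
      rw [Complex.mul_conj, Complex.normSq_eq_norm_sq]
      push_cast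
      rfl
    exact_mod_cast h2
  have hd : ∀ i j, i ≠ j → ∑ χ, ‖x χ i - x χ j‖ ^ 2 = 2 * w := by
    intro i j hij
    have h1 := h i i
    have h2 := h i j
    have h3 := h j i
    have h4 := h j j
    rw [if_pos rfl] at h1 h4
    rw [if_neg hij] at h2
    rw [if_neg (Ne.symm hij)] at h3
    have h5 : ((∑ χ, ‖x χ i - x χ j‖ ^ 2 : ℝ) : ℂ) = ((2 * w : ℝ) : ℂ) := by
      push_cast
      have h6 : ∀ χ, ((‖x χ i - x χ j‖ : ℂ)) ^ 2 = x χ i * conj (x χ i) - x χ i * conj (x χ j) -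
          x χ j * conj (x χ i) + x χ j * conj (x χ j) := by
        intro χ
        have h7 : ((‖x χ i - x χ j‖ : ℂ)) ^ 2 = (x χ i - x χ j) * conj (x χ i - x χ j) := by
          rw [Complex.mul_conj, Complex.normSq_eq_norm_sq]
          push_cast
          rfl
        rw [h7, map_sub]
        ring
      rw [Finset.sum_congr rfl fun χ _ => h6 χ, Finset.sum_add_distrib, Finset.sum_sub_distrib,
        Finset.sum_sub_distrib, h1, h2, h3, h4]
      push_cast
      ring
    exact_mod_cast h5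
  rw [Finset.sum_comm, Fin.sum_univ_succ, Fin.sum_univ_castSucc]
  have hfirst : ∑ χ, ‖ext0 (x χ) ((0 : Fin (e + 1 + 1)) + 1) -
      ext0 (x χ) (0 : Fin (e + 1 + 1))‖ ^ 2 = w * (1 + m) := by
    rw [← hn 0]
    refine Finset.sum_congr rfl fun χ _ => ?_
    have h1 : ext0 (x χ) (((0 : Fin (e + 1 + 1)) : ℕ) + 1) = x χ 0 := ext0_succ (x χ) 0
    have h2 : ext0 (x χ) ((0 : Fin (e + 1 + 1)) : ℕ) = 0 := ext0_zero (x χ)
    rw [h1, h2, sub_zero]
  have hlast : ∑ χ, ‖ext0 (x χ) (((Fin.last e).succ : Fin (e + 1 + 1)) + 1) -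
      ext0 (x χ) ((Fin.last e).succ : Fin (e + 1 + 1))‖ ^ 2 = w * (1 + m) := by
    rw [← hn (Fin.last e)]
    refine Finset.sum_congr rfl fun χ _ => ?_
    have h1 : ext0 (x χ) (((Fin.last e).succ : Fin (e + 1 + 1)) + 1) = 0 := ext0_last (x χ)
    have h2 : ext0 (x χ) (((Fin.last e).succ : Fin (e + 1 + 1)) : ℕ) = x χ (Fin.last e) :=
      ext0_succ (x χ) (Fin.last e)
    rw [h1, h2, zero_sub, norm_neg]
  have hmid : ∀ i : Fin e, ∑ χ, ‖ext0 (x χ) (((Fin.castSucc i).succ : Fin (e + 1 + 1)) + 1) -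
      ext0 (x χ) ((Fin.castSucc i).succ : Fin (e + 1 + 1))‖ ^ 2 = 2 * w := by
    intro i
    rw [← hd i.succ (Fin.castSucc i) (by
      intro h
      have := congrArg Fin.val h
      simp at this)]
    refine Finset.sum_congr rfl fun χ _ => ?_
    have h1 : ext0 (x χ) (((Fin.castSucc i).succ : Fin (e + 1 + 1)) + 1) = x χ i.succ :=
      ext0_succ (x χ) i.succ
    have h2 : ext0 (x χ) (((Fin.castSucc i).succ : Fin (e + 1 + 1)) : ℕ) = x χ (Fin.castSucc i) :=
      ext0_succ (x χ) (Fin.castSucc i)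
    rw [h1, h2]
  rw [hfirst, hlast, Finset.sum_congr rfl fun i _ => hmid i, Finset.sum_const, Finset.card_univ,
    Fintype.card_fin, nsmul_eq_mul]
  push_cast
  ring

end steps

section main

variable {G : Type*} [Group G] [Fintype G] {p : ℕ} [Fact p.Prime] {M : Ideal AlgInt}

/-- The column relations for combinations of members of `b`. -/
theorem sum_wt_comb (hM : IsPModular p M) {u : G} (hu : ∃ k : ℕ, orderOf u = p ^ k)
    {H : Subgroup G} [Fintype H] (hH : H = Subgroup.centralizer ({u} : Set G))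
    {b : Set (IrrCharacter H)} [Fintype b] {B : Set (IrrCharacter G)} [Fintype B]
    (hind : IsInducedBlock M H b B) (a a' : b → ℂ) :
    ∑ ψ : B, wt p u (ψ : G → ℂ) (∑ η, a η • (η : H → ℂ)) *
        conj (wt p u (ψ : G → ℂ) (∑ η, a' η • (η : H → ℂ))) =
      rg p (∑ η, a' η • (η : H → ℂ)) (∑ η, a η • (η : H → ℂ)) := by
  have h1 : ∀ ψ : B, wt p u (ψ : G → ℂ) (∑ η, a η • (η : H → ℂ)) *
        conj (wt p u (ψ : G → ℂ) (∑ η, a' η • (η : H → ℂ))) =
      ∑ η : b, ∑ η' : b, conj (a η) * a' η' * (wt p u (ψ : G → ℂ) (η : H → ℂ) *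
        conj (wt p u (ψ : G → ℂ) (η' : H → ℂ))) := by
    intro ψ
    rw [wt_def, wt_def, rg_comb_right, rg_comb_right, map_sum, Finset.sum_mul_sum]
    refine Finset.sum_congr rfl fun η _ => Finset.sum_congr rfl fun η' _ => ?_
    rw [map_mul, Complex.conj_conj, wt_def, wt_def]
    ring
  rw [Finset.sum_congr rfl fun ψ _ => h1 ψ, Finset.sum_comm, rg_comb_right]
  refine Finset.sum_congr rfl fun η _ => ?_
  rw [Finset.sum_comm, rg_sum_smul_left, Finset.mul_sum]
  refine Finset.sum_congr rfl fun η' _ => ?_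
  rw [← Finset.mul_sum, sum_wt_mul_conj_wt hM hu hH hind η.2 η'.2]
  ring

theorem wt_comb_eq_sum (hM : IsPModular p M) {u : G} {H : Subgroup G} [Fintype H]
    [Fintype (IrrCharacter H)] {q : ℕ} {n : IrrCharacter G → IrrCharacter H → ℕ}
    {ε : IrrCharacter H → ℂ} (hE : Exp u H q n ε) {b : Set (IrrCharacter H)} [Fintype b]
    (hb : IsPBlock M b) (ψ : IrrCharacter G) (k : ℕ) (a : b → ℂ) :
    wt p (u ^ k) (ψ : G → ℂ) (∑ η, a η • (η : H → ℂ)) =
      ∑ ξ : b, (n ψ ξ : ℂ) * ε ξ ^ k * rg p (ξ : H → ℂ) (∑ η, a η • (η : H → ℂ)) := by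
  rw [wt_def, rg_comb_right]
  have h1 : ∀ η : b, conj (a η) * rg p (fun c : H => (ψ : G → ℂ) (u ^ k * (c : G))) (η : H → ℂ) =
      ∑ ξ : b, (n ψ ξ : ℂ) * ε ξ ^ k * (conj (a η) * rg p (ξ : H → ℂ) (η : H → ℂ)) := by
    intro η
    rw [← wt_def, wt_eq_sum hM hE hb ψ k η.2, Finset.mul_sum]
    exact Finset.sum_congr rfl fun ξ _ => by ring
  rw [Finset.sum_congr rfl fun η _ => h1 η, Finset.sum_comm]
  refine Finset.sum_congr rfl fun ξ _ => ?_
  rw [← Finset.mul_sum, ← rg_comb_right]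

/-- **The quadratic form bound.** -/
theorem card_le_of_dual (hM : IsPModular p M) {u : G} (hu : ∃ k : ℕ, orderOf u = p ^ k)
    {H : Subgroup G} [Fintype H] (hH : H = Subgroup.centralizer ({u} : Set G))
    {b : Set (IrrCharacter H)} [Fintype b] {B : Set (IrrCharacter G)}
    (hind : IsInducedBlock M H b B) (hd : blockDefect p b = blockDefect p B)
    {e : ℕ} (he : 0 < e) (a : Fin e → b → ℂ) (z : b → Fin e → ℤ) (φ : Fin e → H → ℂ) (w m : ℝ)
    (h1 : ∀ (ξ : b) (i : Fin e), rg p (ξ : H → ℂ) (∑ η, a i η • (η : H → ℂ)) = z ξ i)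
    (h2 : ∀ (ξ : b) (c : H), ¬ p ∣ orderOf c → (ξ : H → ℂ) c = ∑ i, (z ξ i : ℂ) * φ i c)
    (h3 : ∀ i j, rg p (∑ η, a j η • (η : H → ℂ)) (∑ η, a i η • (η : H → ℂ)) =
      ((w * ((if i = j then 1 else 0) + m) : ℝ) : ℂ)) :
    (Nat.card B : ℝ) ≤ w * (m + e) := by
  classical
  have hpp : p.Prime := Fact.out
  have := Core.finite_irr (G := H)
  have := Fintype.ofFinite (IrrCharacter H)
  have := Core.finite_irr (G := G)
  have := Fintype.ofFinite (IrrCharacter G)
  have : Fintype B := Fintype.ofFinite B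
  obtain ⟨j, hj⟩ := hu
  have hq0 : p ^ j ≠ 0 := pow_ne_zero _ hpp.ne_zero
  have huq : u ^ p ^ j = 1 := by rw [← hj]; exact pow_orderOf_eq_one u
  obtain ⟨n, ε, hE⟩ := exists_exp hH (q := p ^ j) huq
  have hcen : ∀ k : ℕ, k.Coprime (p ^ j) → H = Subgroup.centralizer ({u ^ k} : Set G) := by
    intro k hk
    rw [Cfsg.Agent.Blocks.GaloisConj.centralizer_pow_eq huq hk]
    exact hH
  have hord : ∀ k : ℕ, ∃ i : ℕ, orderOf (u ^ k) = p ^ i := by
    intro k
    have h1 : orderOf (u ^ k) ∣ p ^ j := by rw [← hj]; exact orderOf_pow_dvd k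
    obtain ⟨i, -, hi⟩ := (Nat.dvd_prime_pow hpp).1 h1
    exact ⟨i, hi⟩
  let x : ℕ → B → Fin e → ℂ := fun k χ i =>
    wt p (u ^ k) ((χ : IrrCharacter G) : G → ℂ) (∑ η, a i η • (η : H → ℂ))
  have hx : ∀ k χ i, x k χ i = ∑ ξ : b, (((n χ ξ : ℤ) * z ξ i : ℤ) : ℂ) * ε ξ ^ k := by
    intro k χ i
    change wt p (u ^ k) _ _ = _
    rw [wt_comb_eq_sum hM hE hind.1]
    refine Finset.sum_congr rfl fun ξ _ => ?_
    rw [h1]
    push_cast
    ring
  let c : B × Fin (e + 1) → b → ℤ := fun s ξ =>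
    ext0 (fun i => (n s.1 ξ : ℤ) * z ξ i) (s.2 + 1) - ext0 (fun i => (n s.1 ξ : ℤ) * z ξ i) s.2
  have hc : ∀ k (s : B × Fin (e + 1)), ∑ ξ : b, (c s ξ : ℂ) * ε ξ ^ k =
      ext0 (x k s.1) (s.2 + 1) - ext0 (x k s.1) s.2 := by
    rintro k ⟨χ, i⟩
    have h4 : x k χ = fun i => ∑ ξ : b, (((n χ ξ : ℤ) * z ξ i : ℤ) : ℂ) * ε ξ ^ k :=
      funext fun i => hx k χ i
    dsimp only
    rw [h4, ext0_sum Finset.univ (fun (ξ : b) (i : Fin e) => (n χ ξ : ℤ) * z ξ i)
      (fun ξ => ε ξ ^ k), ext0_sum Finset.univ (fun (ξ : b) (i : Fin e) => (n χ ξ : ℤ) * z ξ i)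
      (fun ξ => ε ξ ^ k), ← Finset.sum_sub_distrib]
    refine Finset.sum_congr rfl fun ξ _ => ?_
    simp only [c]
    push_cast
    ring
  -- nonvanishing
  have hne : ∀ k : ℕ, k.Coprime (p ^ j) → ∀ χ : B, ∃ i, x k χ i ≠ 0 := by
    intro k hk χ
    by_contra hno
    push Not at hno
    apply contr_self_ne_zero hM (hord k) (hcen k hk) hind hd χ.2
    rw [contr_def]
    refine Finset.sum_eq_zero fun η _ => ?_
    have h4 : wt p (u ^ k) ((χ : IrrCharacter G) : G → ℂ) (η : H → ℂ) = 0 := by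
      rw [wt_eq_sum hM hE hind.1 χ k η.2]
      have h5 : ∀ ξ : b, (n χ ξ : ℂ) * ε ξ ^ k * rg p (ξ : H → ℂ) (η : H → ℂ) =
          ∑ i, (((n χ ξ : ℤ) * z ξ i : ℤ) : ℂ) * ε ξ ^ k * rg p (φ i) (η : H → ℂ) := by
        intro ξ
        have h6 : rg p (ξ : H → ℂ) (η : H → ℂ) = ∑ i, (z ξ i : ℂ) * rg p (φ i) (η : H → ℂ) := by
          rw [← rg_sum_smul_left]
          refine rg_congr_left p _ fun y hy => ?_
          rw [h2 ξ y hy, Finset.sum_apply]
          rfl
        rw [h6, Finset.mul_sum]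
        refine Finset.sum_congr rfl fun i _ => ?_
        push_cast
        ring
      rw [Finset.sum_congr rfl fun ξ _ => h5 ξ, Finset.sum_comm]
      refine Finset.sum_eq_zero fun i _ => ?_
      rw [← Finset.sum_mul, ← hx, hno i, zero_mul]
    rw [h4, zero_mul]
  have hmain := count_le hq0 (fun ξ : b => ε ξ) (fun ξ => hE.root ξ) c (2 * (w * (m + e)))
    (2 * Nat.card B) (by
      intro k hk
      rw [← sum_steps_sq he (x k) w m (fun i i' => by
        change ∑ χ : B, wt p (u ^ k) _ _ * conj (wt p (u ^ k) _ _) = _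
        rw [sum_wt_comb hM (hord k) (hcen k hk) hind, h3]), Fintype.sum_prod_type]
      refine le_of_eq (Finset.sum_congr rfl fun χ _ => Finset.sum_congr rfl fun i _ => ?_)
      rw [hc k (χ, i)]) (by
      intro k hk
      simp only [hc k]
      have e1 : Nat.card {s : B × Fin (e + 1) // ext0 (x k s.1) (s.2 + 1) - ext0 (x k s.1) s.2 ≠ 0} =
          ∑ χ : B, Nat.card {i : Fin (e + 1) // ext0 (x k χ) (i + 1) - ext0 (x k χ) i ≠ 0} := by
        let f : {s : B × Fin (e + 1) // ext0 (x k s.1) (s.2 + 1) - ext0 (x k s.1) s.2 ≠ 0} ≃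
            (χ : B) × {i : Fin (e + 1) // ext0 (x k χ) (i + 1) - ext0 (x k χ) i ≠ 0} :=
          { toFun := fun i => ⟨i.1.1, i.1.2, i.2⟩
            invFun := fun i => ⟨(i.1, i.2.1), i.2.2⟩
            left_inv := fun i => rfl
            right_inv := fun i => rfl }
        rw [Nat.card_congr f, Nat.card_eq_fintype_card, Fintype.card_sigma]
        exact Finset.sum_congr rfl fun χ _ => (Nat.card_eq_fintype_card).symm
      rw [e1]
      have e2 : ∑ χ : B, 2 ≤
          ∑ χ : B, Nat.card {i : Fin (e + 1) // ext0 (x k χ) (i + 1) - ext0 (x k χ) i ≠ 0} :=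
        Finset.sum_le_sum fun χ _ => two_le_card_steps (x k χ) (hne k hk χ)
      rw [Finset.sum_const, Finset.card_univ, smul_eq_mul, ← Nat.card_eq_fintype_card,
        mul_comm] at e2
      exact e2)
  push_cast at hmain
  linarith

end main

end Cfsg.Agent.H658
end

-- part: H658/Dual
section
/-!
# The dual basis of a block with the Brauer tree relation on the `p`-regular elements

`c = X ∪ Y` is a block with `|X| = l(c) = e`, such that on the `p`-regular elements
`δ₀ ψ + ∑_{χ ∈ X} δ χ • χ = 0` for all `ψ ∈ Y`.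
-/

set_option autoImplicit false
set_option linter.unusedSectionVars false

open Cfsg
open scoped ComplexConjugate

namespace Cfsg.Agent.H658

open Cfsg.Agent.Blocks.Local Cfsg.Agent.Characters Cfsg.Agent.Blocks.Blau
open Cfsg.Agent.H613.RegGram Cfsg.Agent.H613.Contrib Cfsg.Agent.H613.ContribVal
open Cfsg.Agent.H644.CentralQuot

section dual

variable {K : Type*} [Group K] [Fintype K] {p : ℕ} [Fact p.Prime] {M : Ideal AlgInt}

theorem rg_eq_classInner_of_vanish (f : K → ℂ) {g : K → ℂ} (h : ∀ y, p ∣ orderOf y → g y = 0) :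
    rg p f g = classInner f g := by
  rw [rg_eq_classInner]
  unfold classInner
  congr 1
  refine Finset.sum_congr rfl fun x _ => ?_
  by_cases hx : p ∣ orderOf x
  · rw [h x hx, map_zero, mul_zero, mul_zero]
  · rw [regPart_of_not_dvd hx]

/-- The dual basis of a block with a basic set. `z` is the decomposition matrix with respect to
the functions `φ i`. -/
theorem rg_dual (hM : IsPModular p M) {c : Set (IrrCharacter K)} [Fintype c] (hc : IsPBlock M c)
    {e : ℕ} (hr : blockRank p c = e) (z : c → Fin e → ℤ) (φ : Fin e → K → ℂ)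
    (hz : ∀ (θ : c) (x : K), ¬ p ∣ orderOf x → (θ : K → ℂ) x = ∑ i, (z θ i : ℂ) * φ i x)
    (hφ : ∀ i, regPart p (φ i) ∈ Submodule.span ℂ
      ((fun χ : IrrCharacter K => pRegularPart p (χ : K → ℂ)) '' c)) :
    ∀ (θ : c) (i : Fin e), rg p (θ : K → ℂ) (∑ θ' : c, (z θ' i : ℂ) • (θ' : K → ℂ)) = z θ i := by
  classical
  -- the functions `φ i` are linearly independent
  have hspan : Submodule.span ℂ (Set.range fun i => regPart p (φ i)) =
      Submodule.span ℂ ((fun χ : IrrCharacter K => pRegularPart p (χ : K → ℂ)) '' c) := by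
    apply le_antisymm
    · rw [Submodule.span_le]
      rintro _ ⟨i, rfl⟩
      exact hφ i
    · rw [Submodule.span_le]
      rintro _ ⟨χ, hχ, rfl⟩
      have h1 : pRegularPart p (χ : K → ℂ) = ∑ i, (z ⟨χ, hχ⟩ i : ℂ) • regPart p (φ i) := by
        rw [pRegularPart_eq_regPart]
        funext x
        rw [Finset.sum_apply]
        by_cases hx : p ∣ orderOf x
        · rw [regPart_of_dvd hx]
          symm
          refine Finset.sum_eq_zero fun i _ => ?_
          rw [Pi.smul_apply, regPart_of_dvd hx, smul_zero]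
        · rw [regPart_of_not_dvd hx]
          refine (hz ⟨χ, hχ⟩ x hx).trans (Finset.sum_congr rfl fun i _ => ?_)
          rw [Pi.smul_apply, regPart_of_not_dvd hx, smul_eq_mul]
      change pRegularPart p (χ : K → ℂ) ∈ _
      rw [h1]
      exact Submodule.sum_mem _ fun i _ => Submodule.smul_mem _ _ (Submodule.subset_span ⟨i, rfl⟩)
  have hli : LinearIndependent ℂ fun i => regPart p (φ i) := by
    rw [linearIndependent_iff_card_eq_finrank_span, Set.finrank, hspan, Fintype.card_fin]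
    exact hr.symm
  -- the combinations vanish on the `p`-singular elements
  have hvan : ∀ (i : Fin e) (y : K), p ∣ orderOf y →
      (∑ θ' : c, (z θ' i : ℂ) • (θ' : K → ℂ)) y = 0 := by
    intro i y hy
    have h1 : ∑ i, conj ((∑ θ' : c, (z θ' i : ℂ) • (θ' : K → ℂ)) y) • regPart p (φ i) = 0 := by
      funext x
      rw [Finset.sum_apply, Pi.zero_apply]
      by_cases hx : p ∣ orderOf x
      · refine Finset.sum_eq_zero fun i _ => ?_
        rw [Pi.smul_apply, regPart_of_dvd hx, smul_zero]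
      · have h2 := Cfsg.Agent.S0907.result p M hM c hc x y hx hy
        rw [← finsum_set_coe_eq_finsum_mem, finsum_eq_sum_of_fintype] at h2
        rw [← h2]
        have h3 : ∀ i, (conj ((∑ θ' : c, (z θ' i : ℂ) • (θ' : K → ℂ)) y) •
            regPart p (φ i)) x = ∑ θ' : c, (z θ' i : ℂ) * φ i x * conj ((θ' : K → ℂ) y) := by
          intro i
          rw [Pi.smul_apply, regPart_of_not_dvd hx, smul_eq_mul, Finset.sum_apply, map_sum,
            Finset.sum_mul]
          refine Finset.sum_congr rfl fun θ' _ => ?_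
          rw [Pi.smul_apply, smul_eq_mul, map_mul, map_intCast]
          ring
        rw [Finset.sum_congr rfl fun i _ => h3 i, Finset.sum_comm]
        refine Finset.sum_congr rfl fun θ' _ => ?_
        rw [← Finset.sum_mul, ← hz θ' x hx]
    have h2 := Fintype.linearIndependent_iff.1 hli _ h1 i
    rwa [map_eq_zero] at h2
  intro θ i
  rw [rg_eq_classInner_of_vanish _ (hvan i), Core.classInner_sum_right]
  rw [Finset.sum_eq_single θ]
  · rw [Core.classInner_smul_right, Core.classInner_irr_self θ.1.2, map_intCast, mul_one]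
  · intro θ' _ hne
    rw [Core.classInner_smul_right, Core.classInner_irr_ne θ.1.2 θ'.1.2, mul_zero]
    intro h
    exact hne (Subtype.ext (Subtype.ext h.symm))
  · intro h
    exact absurd (Finset.mem_univ _) h

theorem rg_dual_dual (hM : IsPModular p M) {c : Set (IrrCharacter K)} [Fintype c]
    (hc : IsPBlock M c)
    {e : ℕ} (hr : blockRank p c = e) (z : c → Fin e → ℤ) (φ : Fin e → K → ℂ)
    (hz : ∀ (θ : c) (x : K), ¬ p ∣ orderOf x → (θ : K → ℂ) x = ∑ i, (z θ i : ℂ) * φ i x)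
    (hφ : ∀ i, regPart p (φ i) ∈ Submodule.span ℂ
      ((fun χ : IrrCharacter K => pRegularPart p (χ : K → ℂ)) '' c)) (i j : Fin e) :
    rg p (∑ θ' : c, (z θ' j : ℂ) • (θ' : K → ℂ)) (∑ θ' : c, (z θ' i : ℂ) • (θ' : K → ℂ)) =
      ∑ θ' : c, (z θ' j : ℂ) * z θ' i := by
  rw [rg_sum_smul_left]
  exact Finset.sum_congr rfl fun θ' _ => by rw [rg_dual hM hc hr z φ hz hφ]

/-- The decomposition matrix of a block with the relation of a Brauer tree with `e` edges in the
case of a star with an exceptional vertex. -/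
theorem exists_decomp {c X Y : Set (IrrCharacter K)} [Fintype c] (hXY : c = X ∪ Y)
    (hdis : Disjoint X Y) {e : ℕ} (hX : Nat.card X = e) {δ : IrrCharacter K → ℤ} {δ₀ : ℤ}
    (hδ : ∀ χ ∈ X, δ χ = 1 ∨ δ χ = -1) (hδ₀ : δ₀ = 1 ∨ δ₀ = -1)
    (hrel : ∀ ψ ∈ Y, ∀ g : K, ¬ p ∣ orderOf g →
      (δ₀ : ℂ) * (ψ : K → ℂ) g + ∑ᶠ χ ∈ X, (δ χ : ℂ) * (χ : K → ℂ) g = 0) :
    ∃ (z : c → Fin e → ℤ) (φ : Fin e → K → ℂ),
      (∀ (θ : c) (x : K), ¬ p ∣ orderOf x → (θ : K → ℂ) x = ∑ i, (z θ i : ℂ) * φ i x) ∧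
      (∀ i, regPart p (φ i) ∈ Submodule.span ℂ
        ((fun χ : IrrCharacter K => pRegularPart p (χ : K → ℂ)) '' c)) ∧
      ∀ i j, ∑ θ' : c, (z θ' j : ℂ) * z θ' i = (if i = j then 1 else 0) + (Nat.card Y : ℂ) := by
  classical
  have := Core.finite_irr (G := K)
  have : Finite X := inferInstance
  obtain ⟨f⟩ : Nonempty (Fin e ≃ X) := ⟨(Finite.equivFinOfCardEq hX).symm⟩
  have hXc : ∀ i, ((f i : X) : IrrCharacter K) ∈ c := fun i => by
    rw [hXY]; exact Or.inl (f i).2
  have hYc : ∀ θ ∈ Y, θ ∈ c := fun θ hθ => by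
    rw [hXY]; exact Or.inr hθ
  have hne : ∀ (θ : IrrCharacter K), θ ∈ Y → ∀ i, θ ≠ f i := by
    rintro θ hθ i rfl
    exact Set.disjoint_left.1 hdis (f i).2 hθ
  have hδ2 : ∀ i, (δ (f i) : ℂ) * δ (f i) = 1 := by
    intro i
    rcases hδ _ (f i).2 with h | h <;> rw [h] <;> push_cast <;> ring
  have hδ02 : (δ₀ : ℂ) * δ₀ = 1 := by
    rcases hδ₀ with h | h <;> rw [h] <;> push_cast <;> ring
  have hsum : ∀ g : K, ∑ᶠ χ ∈ X, (δ χ : ℂ) * (χ : K → ℂ) g =
      ∑ i, (δ (f i) : ℂ) * ((f i : X) : K → ℂ) g := by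
    intro g
    rw [← finsum_set_coe_eq_finsum_mem, ← finsum_comp_equiv f, finsum_eq_sum_of_fintype]
  refine ⟨fun θ i => (if (θ : IrrCharacter K) = f i then δ (f i) else 0) +
    (if (θ : IrrCharacter K) ∈ Y then -δ₀ else 0),
    fun i x => (δ (f i) : ℂ) * ((f i : X) : K → ℂ) x, ?_, ?_, ?_⟩
  · rintro ⟨θ, hθ⟩ x hx
    by_cases hY : θ ∈ Y
    · have h1 := hrel θ hY x hx
      rw [hsum] at h1
      have h2 : ∀ i, (((if θ = f i then δ (f i) else 0) + (if θ ∈ Y then -δ₀ else 0) : ℤ) : ℂ) *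
          ((δ (f i) : ℂ) * ((f i : X) : K → ℂ) x) =
            -(δ₀ : ℂ) * ((δ (f i) : ℂ) * ((f i : X) : K → ℂ) x) := by
        intro i
        rw [if_neg (hne θ hY i), if_pos hY]
        push_cast
        ring
      simp only [h2]
      rw [← Finset.mul_sum, eq_neg_of_add_eq_zero_right h1]
      linear_combination -(θ : K → ℂ) x * hδ02
    · have hθX : θ ∈ X := by
        rw [hXY] at hθ
        exact hθ.resolve_right hY
      obtain ⟨i, hi⟩ := f.surjective ⟨θ, hθX⟩
      have hi' : ((f i : X) : IrrCharacter K) = θ := congrArg Subtype.val hi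
      rw [Finset.sum_eq_single i]
      · simp only [if_neg hY, hi', if_true]
        have h3 := hδ2 i
        rw [hi'] at h3
        push_cast
        linear_combination -(θ : K → ℂ) x * h3
      · intro j _ hj
        simp only [if_neg hY]
        rw [if_neg]
        · simp
        · intro h
          rw [← hi'] at h
          exact hj (f.injective (Subtype.ext h)).symm
      · intro h
        exact absurd (Finset.mem_univ _) h
  · intro i
    have h1 : regPart p (fun x => (δ (f i) : ℂ) * ((f i : X) : K → ℂ) x) =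
        (δ (f i) : ℂ) • pRegularPart p ((f i : X) : K → ℂ) := by
      rw [pRegularPart_eq_regPart]
      funext x
      rw [Pi.smul_apply]
      by_cases hx : p ∣ orderOf x
      · rw [regPart_of_dvd hx, regPart_of_dvd hx, smul_zero]
      · rw [regPart_of_not_dvd hx, regPart_of_not_dvd hx, smul_eq_mul]
    rw [h1]
    exact Submodule.smul_mem _ _ (Submodule.subset_span ⟨_, hXc i, rfl⟩)
  · intro i j
    have h1 : ∀ θ' : c, ((((if (θ' : IrrCharacter K) = f j then δ (f j) else 0) +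
        (if (θ' : IrrCharacter K) ∈ Y then -δ₀ else 0) : ℤ) : ℂ) *
        (((if (θ' : IrrCharacter K) = f i then δ (f i) else 0) +
        (if (θ' : IrrCharacter K) ∈ Y then -δ₀ else 0) : ℤ) : ℂ)) =
        (if θ' = ⟨f i, hXc i⟩ then (if i = j then (1 : ℂ) else 0) else 0) +
          (if (θ' : IrrCharacter K) ∈ Y then 1 else 0) := by
      intro θ'
      by_cases hY : (θ' : IrrCharacter K) ∈ Y
      · have e1 : θ' ≠ ⟨f i, hXc i⟩ := fun h => hne _ hY i (congrArg Subtype.val h)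
        rw [if_neg (hne _ hY j), if_neg (hne _ hY i), if_pos hY, if_pos hY, if_neg e1]
        push_cast
        linear_combination hδ02
      · rw [if_neg hY, if_neg hY, add_zero, add_zero, add_zero]
        by_cases h2 : θ' = ⟨f i, hXc i⟩
        · have h2' : (θ' : IrrCharacter K) = f i := congrArg Subtype.val h2
          rw [if_pos h2, h2', if_pos rfl]
          by_cases h3 : i = j
          · subst h3
            rw [if_pos rfl, if_pos rfl]
            exact hδ2 i
          · rw [if_neg h3, if_neg]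
            · simp
            · intro h4
              exact h3 (f.injective (Subtype.ext h4))
        · have h2' : (θ' : IrrCharacter K) ≠ f i := fun h => h2 (Subtype.ext h)
          rw [if_neg h2, if_neg h2']
          simp
    rw [Finset.sum_congr rfl fun θ' _ => h1 θ', Finset.sum_add_distrib,
      Finset.sum_ite_eq' Finset.univ (⟨f i, hXc i⟩ : c), if_pos (Finset.mem_univ _),
      Finset.sum_boole]
    congr 2
    rw [← Fintype.card_subtype, ← Nat.card_eq_fintype_card]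
    refine Nat.card_congr ⟨fun t => ⟨t.1.1, t.2⟩, fun t => ⟨⟨t.1, hYc _ t.2⟩, t.2⟩, fun t => rfl,
      fun t => rfl⟩

end dual

section lift

variable {H : Type*} [Group H] [Fintype H] {p : ℕ} [Fact p.Prime] {M : Ideal AlgInt}
  {U : Subgroup H} [U.Normal]

theorem rg_mk [Fintype (H ⧸ U)] (hU : U ≤ Subgroup.center H) (hp : IsPGroup p U)
    (f f' : H ⧸ U → ℂ) :
    (Nat.card U : ℂ) * rg p (fun g : H => f (QuotientGroup.mk g))
      (fun g : H => f' (QuotientGroup.mk g)) = rg p f f' := by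
  classical
  rw [rg_def, rg_def, inv_card_eq, mul_assoc]
  congr 2
  rw [pair_eq_sum_filter, pair_eq_sum_filter, sum_reg_mk hU hp]

theorem rg_smul_left (f g : H → ℂ) (c : ℂ) : rg p (c • f) g = c * rg p f g := by
  rw [rg_def, rg_def, pair_eq_sum_filter, pair_eq_sum_filter, mul_left_comm]
  congr 1
  rw [Finset.mul_sum]
  refine Finset.sum_congr rfl fun x _ => ?_
  rw [Pi.smul_apply, smul_eq_mul, mul_assoc]

theorem rg_smul_right (f g : H → ℂ) (c : ℂ) : rg p f (c • g) = conj c * rg p f g := by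
  rw [← conj_rg, rg_smul_left, map_mul, conj_rg]

end lift

section bound

variable {G : Type*} [Group G] [Fintype G] {p : ℕ} [Fact p.Prime] {M : Ideal AlgInt}

/-- The bound for `k(B)` from a major subsection `(u, b)`, where the block `defl U b` has the
relation of a star with an exceptional vertex. -/
theorem card_le_of_defl (hM : IsPModular p M) {u : G} (hu : ∃ k : ℕ, orderOf u = p ^ k)
    {H : Subgroup G} [Fintype H] (hH : H = Subgroup.centralizer ({u} : Set G))
    {b : Set (IrrCharacter H)} (hb : IsPBlock M b) {B : Set (IrrCharacter G)}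
    (hind : IsInducedBlock M H b B) (hd : blockDefect p b = blockDefect p B)
    {U : Subgroup H} [U.Normal] (hU : U ≤ Subgroup.center H) (hp : IsPGroup p U)
    {X Y : Set (IrrCharacter (H ⧸ U))} (hXY : defl U b = X ∪ Y) (hdis : Disjoint X Y)
    {e : ℕ} (he : 0 < e) (hr : blockRank p (defl U b) = e) (hX : Nat.card X = e)
    {δ : IrrCharacter (H ⧸ U) → ℤ} {δ₀ : ℤ}
    (hδ : ∀ χ ∈ X, δ χ = 1 ∨ δ χ = -1) (hδ₀ : δ₀ = 1 ∨ δ₀ = -1)
    (hrel : ∀ ψ ∈ Y, ∀ g : H ⧸ U, ¬ p ∣ orderOf g →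
      (δ₀ : ℂ) * (ψ : H ⧸ U → ℂ) g + ∑ᶠ χ ∈ X, (δ χ : ℂ) * (χ : H ⧸ U → ℂ) g = 0) :
    Nat.card B ≤ Nat.card U * (Nat.card Y + e) := by
  classical
  have := Fintype.ofFinite (H ⧸ U)
  have := Core.finite_irr (G := H)
  have := Core.finite_irr (G := H ⧸ U)
  have : Fintype b := Fintype.ofFinite b
  have : Fintype (defl U b) := Fintype.ofFinite (defl U b)
  have hU0 : (Nat.card U : ℂ) ≠ 0 := by exact_mod_cast Nat.card_pos.ne'
  have hc := isPBlock_defl hM hU hp hb
  obtain ⟨z', φ', hz', hφ', hsum⟩ := exists_decomp (p := p) hXY hdis hX hδ hδ₀ hrel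
  choose m hm using fun ξ : b => exists_int_defl hM hU hp hb ξ.2
  let F : Fin e → H ⧸ U → ℂ := fun i => ∑ θ : defl U b, (z' θ i : ℂ) • (θ : H ⧸ U → ℂ)
  let a : Fin e → b → ℂ := fun i η => (Nat.card U : ℂ) *
    ∑ θ : defl U b, if infl U (θ : IrrCharacter (H ⧸ U)) = η then (z' θ i : ℂ) else 0
  have hcomb : ∀ i, ∑ η : b, a i η • ((η : IrrCharacter H) : H → ℂ) =
      (Nat.card U : ℂ) • fun g : H => F i (QuotientGroup.mk g) := by
    intro i
    funext g
    rw [Finset.sum_apply, Pi.smul_apply, smul_eq_mul]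
    have h0 : F i (QuotientGroup.mk g) =
      ∑ θ : defl U b, (z' θ i : ℂ) * (θ : H ⧸ U → ℂ) (QuotientGroup.mk g) := by
      change (∑ θ : defl U b, (z' θ i : ℂ) • (θ : H ⧸ U → ℂ)) (QuotientGroup.mk g) = _
      rw [Finset.sum_apply]
      rfl
    rw [h0, Finset.mul_sum]
    have h1 : ∀ η : b, (a i η • ((η : IrrCharacter H) : H → ℂ)) g =
        ∑ θ : defl U b, if (⟨infl U (θ : IrrCharacter (H ⧸ U)), θ.2⟩ : b) = η then
          (Nat.card U : ℂ) * ((z' θ i : ℂ) * (η : H → ℂ) g) else 0 := by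
      intro η
      rw [Pi.smul_apply, smul_eq_mul]
      change (Nat.card U : ℂ) * _ * _ = _
      rw [Finset.mul_sum, Finset.sum_mul]
      refine Finset.sum_congr rfl fun θ _ => ?_
      by_cases h2 : infl U (θ : IrrCharacter (H ⧸ U)) = η
      · rw [if_pos h2, if_pos (Subtype.ext h2)]
        ring
      · rw [if_neg h2, if_neg (fun h3 => h2 (congrArg Subtype.val h3))]
        ring
    rw [Finset.sum_congr rfl fun η _ => h1 η, Finset.sum_comm]
    refine Finset.sum_congr rfl fun θ _ => ?_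
    rw [Finset.sum_ite_eq Finset.univ, if_pos (Finset.mem_univ _)]
    rfl
  have hcard : (Nat.card B : ℝ) ≤ (Nat.card U : ℝ) * ((Nat.card Y : ℝ) + e) := by
    refine card_le_of_dual hM hu hH hind hd he a
      (fun ξ i => ∑ θ : defl U b, m ξ θ * z' θ i)
      (fun i g => φ' i (QuotientGroup.mk g)) (Nat.card U) (Nat.card Y) ?_ ?_ ?_
    · intro ξ i
      rw [hcomb, rg_smul_right, Complex.conj_natCast]
      have h1 : rg p ((ξ : IrrCharacter H) : H → ℂ) (fun g : H => F i (QuotientGroup.mk g)) =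
          rg p (∑ θ : defl U b, (m ξ θ : ℂ) • (infl U (θ : IrrCharacter (H ⧸ U)) : H → ℂ))
            (fun g : H => F i (QuotientGroup.mk g)) := by
        refine rg_congr_left p _ fun c hc => ?_
        rw [hm ξ c hc, Finset.sum_apply]
        rfl
      rw [h1, rg_sum_smul_left, Finset.mul_sum]
      push_cast
      refine Finset.sum_congr rfl fun θ _ => ?_
      rw [mul_left_comm]
      congr 1
      have h2 := rg_mk (p := p) hU hp (θ : H ⧸ U → ℂ) (F i)
      rw [rg_dual hM hc hr z' φ' hz' hφ'] at h2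
      exact h2
    · intro ξ g hg
      rw [hm ξ g hg]
      have h1 : ∀ θ : defl U b, (m ξ θ : ℂ) * (infl U (θ : IrrCharacter (H ⧸ U)) : H → ℂ) g =
          ∑ i, (m ξ θ : ℂ) * ((z' θ i : ℂ) * φ' i (QuotientGroup.mk g)) := by
        intro θ
        rw [← Finset.mul_sum, ← hz' θ _ (not_dvd_orderOf_mk hg)]
        rfl
      rw [Finset.sum_congr rfl fun θ _ => h1 θ, Finset.sum_comm]
      refine Finset.sum_congr rfl fun i _ => ?_
      push_cast
      rw [Finset.sum_mul]
      refine Finset.sum_congr rfl fun θ _ => ?_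
      ring
    · intro i j
      rw [hcomb, hcomb, rg_smul_right, rg_smul_left, rg_mk hU hp, Complex.conj_natCast]
      have h2 := rg_dual_dual hM hc hr z' φ' hz' hφ' i j
      rw [hsum] at h2
      change (Nat.card U : ℂ) * rg p (F j) (F i) = _
      change rg p (F j) (F i) = _ at h2
      rw [h2]
      push_cast
      by_cases hij : i = j
      · simp [hij]
      · simp [hij]
  exact_mod_cast hcard

end bound

end Cfsg.Agent.H658
end

-- part: H658/CyclicPattern
section
/-!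
# The pattern of the characters of a block with a cyclic defect group on the `p`-regular elements

`CyclicPattern p M` is the statement needed from the theory of blocks with a cyclic defect group.
-/

set_option autoImplicit false
set_option linter.unusedSectionVars false

open Cfsg
open scoped ComplexConjugate

namespace Cfsg.Agent.H658

open Cfsg.Agent.Blocks.Local Cfsg.Agent.Characters

universe u

theorem div_add_le {p a e : ℕ} (hp : 1 < p) (ha : 1 ≤ a) (he : e ∣ p - 1) :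
    (p ^ a - 1) / e + e ≤ p ^ a := by
  have h0 : 0 < p - 1 := by omega
  have he0 : 0 < e := Nat.pos_of_dvd_of_pos he h0
  have he1 : e ≤ p - 1 := Nat.le_of_dvd h0 he
  have h1 : p ^ 1 ≤ p ^ a := Nat.pow_le_pow_right (by omega) ha
  rw [pow_one] at h1
  obtain ⟨N, hN⟩ : ∃ N, N = p ^ a := ⟨_, rfl⟩
  rw [← hN] at h1 ⊢
  have h2 : 1 ≤ (N - 1) / e := by
    rw [Nat.le_div_iff_mul_le he0]
    omega
  have h3 : (N - 1) / e * e ≤ N - 1 := Nat.div_mul_le_self _ _
  obtain ⟨t, ht⟩ : ∃ t, t = (N - 1) / e := ⟨_, rfl⟩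
  rw [← ht] at h2 h3 ⊢
  obtain ⟨t', rfl⟩ : ∃ t', t = t' + 1 := ⟨t - 1, by omega⟩
  obtain ⟨e', rfl⟩ : ∃ e', e = e' + 1 := ⟨e - 1, by omega⟩
  have h4 : (t' + 1) * (e' + 1) = t' * e' + t' + e' + 1 := by ring
  rw [h4] at h3
  have h5 : 0 ≤ t' * e' := Nat.zero_le _
  omega

/-- The consequences of the theory of blocks with a cyclic defect group, as a property of `p`
and `M`. -/
def CyclicPattern (p : ℕ) (M : Ideal AlgInt) : Prop :=
  ∀ (G : Type u) [Group G] [Finite G] (D : Subgroup G), IsCyclic D → ∀ a : ℕ, 1 ≤ a →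
    Nat.card D = p ^ a → ∀ B : Set (IrrCharacter G), IsPBlock M B → IsDefectGroup p M B D →
    ∃ (e : ℕ) (X Y : Set (IrrCharacter G)) (δ : IrrCharacter G → ℤ) (δ₀ : ℤ),
      0 < e ∧ Nat.card Y + e ≤ p ^ a ∧ blockRank p B = e ∧ B = X ∪ Y ∧ Disjoint X Y ∧
      Nat.card X = e ∧ (∀ χ ∈ X, δ χ = 1 ∨ δ χ = -1) ∧ (δ₀ = 1 ∨ δ₀ = -1) ∧
      ∀ ψ ∈ Y, ∀ g : G, ¬ p ∣ orderOf g →
        (δ₀ : ℂ) * (ψ : G → ℂ) g + ∑ᶠ χ ∈ X, (δ χ : ℂ) * (χ : G → ℂ) g = 0

end Cfsg.Agent.H658
end
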